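import Groth.Agent.DualFMLib.TorAlg
import Groth.Agent.RpushLib.HBase

/-!
# Squares over a base, flat over it, are tor independent
-/

set_option autoImplicit false
set_option linter.style.haveILetI false
set_option maxHeartbeats 1000000
set_option backward.isDefEq.respectTransparency false
set_option backward.isDefEq.respectTransparency.types false

universe u

open CategoryTheory CategoryTheory.Limits AlgebraicGeometry TensorProduct

namespace Groth.Agent.DualFMLib

/-- The injectivity needed on a chart. -/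
theorem injective_baseChange_pushout {W W' B D C : Type u} [CommRing W] [CommRing W'] [CommRing B]
    [CommRing D] [CommRing C] [Algebra W B] [Algebra W W'] [Algebra B D] [Algebra W' D] [Algebra W D]
    [IsScalarTower W B D] [IsScalarTower W W' D] [Algebra.IsPushout W W' B D] [Algebra D C]
    [Module.Flat D C] [Algebra B C] [IsScalarTower B D C]
    (K F N : Type u) [AddCommGroup K] [Module B K] [AddCommGroup F] [Module B F]
    [AddCommGroup N] [Module B N] (u : K →ₗ[B] F) (g : F →ₗ[B] N) (hu : Function.Injective u)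
    (he : Function.Exact u g) (hg : Function.Surjective g) (hN : FlatVia (algebraMap W B) N) :
    Function.Injective (u.baseChange C) := by
  letI : Module W K := Module.compHom K (algebraMap W B)
  letI : Module W F := Module.compHom F (algebraMap W B)
  letI : Module W N := Module.compHom N (algebraMap W B)
  haveI : IsScalarTower W B K := IsScalarTower.of_algebraMap_smul fun _ _ => rfl
  haveI : IsScalarTower W B F := IsScalarTower.of_algebraMap_smul fun _ _ => rfl
  haveI : IsScalarTower W B N := IsScalarTower.of_algebraMap_smul fun _ _ => rfl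
  haveI : Module.Flat W N := hN
  have h0 : Function.Injective ((u.restrictScalars W).rTensor W') :=
    FlatLib.lTensor_injective_of_flat_coker (u.restrictScalars W) (g.restrictScalars W) hu he hg W'
  have h1 : Function.Injective ((u.restrictScalars W).lTensor W') := by
    have hcomm : ∀ x, (u.restrictScalars W).lTensor W' x =
        TensorProduct.comm W F W' ((u.restrictScalars W).rTensor W' (TensorProduct.comm W W' K x)) := fun x => by
      induction x using TensorProduct.induction_on with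
      | zero => simp
      | add a b ha hb => simp only [map_add, ha, hb]
      | tmul a k => simp
    intro x y hxy
    rw [hcomm, hcomm] at hxy
    exact (TensorProduct.comm W W' K).injective (h0 ((TensorProduct.comm W F W').injective hxy))
  let eK := Algebra.IsPushout.cancelBaseChange W W' B D K
  let eF := Algebra.IsPushout.cancelBaseChange W W' B D F
  have h2 : Function.Injective (u.baseChange D) := by
    have hnat : ∀ x, u.baseChange D (eK.symm x) = eF.symm ((u.restrictScalars W).lTensor W' x) := fun x => by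
      induction x using TensorProduct.induction_on with
      | zero => simp
      | add a b ha hb => simp only [map_add, ha, hb]
      | tmul a k => simp [eK, eF]
    intro x y hxy
    obtain ⟨x, rfl⟩ := eK.symm.surjective x
    obtain ⟨y, rfl⟩ := eK.symm.surjective y
    rw [hnat, hnat] at hxy
    exact congrArg eK.symm (h1 (eF.symm.injective hxy))
  have h3 : Function.Injective ((u.baseChange D).lTensor C) :=
    Module.Flat.lTensor_preserves_injective_linearMap _ h2
  let cK := AlgebraTensorModule.cancelBaseChange B D C C K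
  let cF := AlgebraTensorModule.cancelBaseChange B D C C F
  have hnat : ∀ x, u.baseChange C (cK x) = cF ((u.baseChange D).lTensor C x) := fun x => by
    induction x using TensorProduct.induction_on with
    | zero => simp
    | add a b ha hb => simp only [map_add, ha, hb]
    | tmul a y =>
      induction y using TensorProduct.induction_on with
      | zero => simp
      | add a b ha hb => simp only [tmul_add, map_add, ha, hb]
      | tmul b k => simp [cK, cF]
  intro x y hxy
  obtain ⟨x, rfl⟩ := cK.surjective x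
  obtain ⟨y, rfl⟩ := cK.surjective y
  rw [hnat, hnat] at hxy
  exact congrArg cK (h3 (cF.injective hxy))

variable {S S' P P' X : Scheme.{u}} {π : P ⟶ S} {g : S' ⟶ S} {π' : P' ⟶ S'} {ν : P' ⟶ P}

/-- A chart at a point of an affine open of the fibre product. -/
theorem exists_torChart (H : IsPullback ν π' π g) [Flat π] (f : X ⟶ P) [Flat (f ≫ π)]
    {U : P.Opens} (hU : IsAffineOpen U) {U' : P'.Opens} (hU' : IsAffineOpen U') (hle : U' ≤ ν ⁻¹ᵁ U)
    {V : X.Opens} (hV : IsAffineOpen V) (hVU : V ≤ f ⁻¹ᵁ U) (q : PrimeSpectrum Γ(P', U')) :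
    letI := (ν.appLE U U' hle).hom.toAlgebra
    letI := (f.appLE U V hVU).hom.toAlgebra
    ∃ d : TorChart Γ(P, U) Γ(P', U'), d.r' ∉ q.asIdeal ∧ FlatVia d.φ (d.B ⊗[Γ(P, U)] Γ(X, V)) := by
  letI := (ν.appLE U U' hle).hom.toAlgebra
  letI := (f.appLE U V hVU).hom.toAlgebra
  let y : P' := hU'.fromSpec q
  have hyU' : y ∈ U' := by
    have : y ∈ Set.range hU'.fromSpec := ⟨q, rfl⟩
    rwa [hU'.range_fromSpec] at this
  obtain ⟨W, hW, hyW, -⟩ := exists_isAffineOpen_mem_and_subset (X := S) (x := π (ν y)) (U := ⊤) trivial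
  obtain ⟨W', hW', hyW', hWle⟩ := exists_isAffineOpen_mem_and_subset (X := S') (x := π' y)
    (U := g ⁻¹ᵁ W) (by
      change g (π' y) ∈ W
      rw [← Scheme.Hom.comp_apply, ← H.w, Scheme.Hom.comp_apply]
      exact hyW)
  obtain ⟨r, hr, hyr⟩ := hU.exists_basicOpen_le (V := π ⁻¹ᵁ W) ⟨ν y, hyW⟩ (hle hyU')
  let UB := P.basicOpen r
  have hUB : IsAffineOpen UB := hU.basicOpen r
  let UD := ν ⁻¹ᵁ UB ⊓ π' ⁻¹ᵁ W'
  have hyD : y ∈ UD := ⟨hyr, hyW'⟩
  obtain ⟨r', hr', hyr'⟩ := hU'.exists_basicOpen_le (V := UD) ⟨y, hyD⟩ hyU'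
  let UC := P'.basicOpen r'
  have hUC : IsAffineOpen UC := hU'.basicOpen r'
  have hUD : IsAffineOpen UD := RpushLib.isAffineOpen_fibre H hW hW' hWle hUB hr
  letI : Algebra Γ(S, W) Γ(P, UB) := (π.appLE W UB hr).hom.toAlgebra
  letI : Algebra Γ(S, W) Γ(S', W') := (g.appLE W W' hWle).hom.toAlgebra
  letI : Algebra Γ(P, UB) Γ(P', UD) := (ν.appLE UB UD inf_le_left).hom.toAlgebra
  letI : Algebra Γ(S', W') Γ(P', UD) := (π'.appLE W' UD inf_le_right).hom.toAlgebra
  letI : Algebra Γ(S, W) Γ(P', UD) := (π.appLE W UB hr ≫ ν.appLE UB UD inf_le_left).hom.toAlgebra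
  have hp := RpushLib.isPushout_sections H hW hW' hWle hUB hr
  haveI : IsScalarTower Γ(S, W) Γ(P, UB) Γ(P', UD) := IsScalarTower.of_algebraMap_eq fun _ => rfl
  haveI : IsScalarTower Γ(S, W) Γ(S', W') Γ(P', UD) := IsScalarTower.of_algebraMap_eq fun x =>
    congr($(hp.w) x)
  haveI : Algebra.IsPushout Γ(S, W) Γ(S', W') Γ(P, UB) Γ(P', UD) :=
    CommRingCat.isPushout_iff_isPushout.mp hp.flip
  letI : Algebra Γ(P', UD) Γ(P', UC) := ((𝟙 P' : P' ⟶ P').appLE UD UC hr').hom.toAlgebra
  haveI : Module.Flat Γ(P', UD) Γ(P', UC) :=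
    (Flat.flat_appLE (𝟙 P' : P' ⟶ P') hUD hUC hr' : ((𝟙 P' : P' ⟶ P').appLE UD UC hr').hom.Flat)
  letI : Algebra Γ(P, UB) Γ(P', UC) := (ν.appLE UB UC (hr'.trans inf_le_left)).hom.toAlgebra
  haveI : IsScalarTower Γ(P, UB) Γ(P', UD) Γ(P', UC) := IsScalarTower.of_algebraMap_eq fun x => by
    have h := Scheme.Hom.appLE_comp_appLE (𝟙 P') ν UB UD UC inf_le_left hr'
    simp only [Category.id_comp] at h
    exact (congr($(h) x)).symm
  letI : Algebra Γ(P, U) Γ(P, UB) := (P.presheaf.map (homOfLE (P.basicOpen_le r)).op).hom.toAlgebra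
  letI : Algebra Γ(P', U') Γ(P', UC) := (P'.presheaf.map (homOfLE (P'.basicOpen_le r')).op).hom.toAlgebra
  haveI hlocB : IsLocalization.Away r Γ(P, UB) := hU.isLocalization_basicOpen r
  haveI hlocC : IsLocalization.Away r' Γ(P', UC) := hU'.isLocalization_basicOpen r'
  haveI : Module.Flat Γ(P, U) Γ(P, UB) := IsLocalization.flat _ (Submonoid.powers r)
  refine ⟨{
    W := Γ(S, W), B := Γ(P, UB), C := Γ(P', UC)
    φ := (π.appLE W UB hr).hom
    flatφ := Flat.flat_appLE π hW hUB hr
    r' := r'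
    compat := by
      change ((P'.presheaf.map (homOfLE (P'.basicOpen_le r')).op).hom).comp (ν.appLE U U' hle).hom =
        (ν.appLE UB UC (hr'.trans inf_le_left)).hom.comp (P.presheaf.map (homOfLE (P.basicOpen_le r)).op).hom
      rw [← CommRingCat.hom_comp, ← CommRingCat.hom_comp, Scheme.Hom.appLE_map, Scheme.Hom.map_appLE]
    key := fun K F N _ _ _ _ _ _ u v hu he hv hN =>
      injective_baseChange_pushout (W := Γ(S, W)) (W' := Γ(S', W')) (D := Γ(P', UD)) K F N u v hu he hv hN },
    ?_, ?_⟩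
  · intro hmem
    have h : q ∈ hU'.fromSpec ⁻¹ᵁ P'.basicOpen r' := hyr'
    rw [hU'.fromSpec_preimage_basicOpen] at h
    exact h hmem
  let r₁ : Γ(X, V) := f.appLE U V hVU r
  let UA := X.basicOpen r₁
  have hUA : IsAffineOpen UA := hV.basicOpen r₁
  have hUAle : UA ≤ f ⁻¹ᵁ UB := fun x hx => by
    have h : UA = V ⊓ f ⁻¹ᵁ UB := by
      simp [UA, r₁, UB, Scheme.Hom.appLE, Scheme.basicOpen_res, Scheme.preimage_basicOpen]
    exact (h ▸ hx).2
  have hUAW : UA ≤ (f ≫ π) ⁻¹ᵁ W := fun x hx => hr (hUAle hx)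
  letI : Algebra Γ(P, UB) Γ(X, UA) := (f.appLE UB UA hUAle).hom.toAlgebra
  letI : Algebra Γ(X, V) Γ(X, UA) := (X.presheaf.map (homOfLE (X.basicOpen_le r₁)).op).hom.toAlgebra
  letI : Algebra Γ(P, U) Γ(X, UA) := (f.appLE U UA ((X.basicOpen_le r₁).trans hVU)).hom.toAlgebra
  haveI : IsScalarTower Γ(P, U) Γ(P, UB) Γ(X, UA) := IsScalarTower.of_algebraMap_eq fun x => by
    have h := Scheme.Hom.map_appLE f hUAle (homOfLE (P.basicOpen_le r)).op
    exact (congr($(h) x)).symm
  haveI : IsScalarTower Γ(P, U) Γ(X, V) Γ(X, UA) := IsScalarTower.of_algebraMap_eq fun x => by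
    have h := Scheme.Hom.appLE_map f hVU (homOfLE (X.basicOpen_le r₁)).op
    exact (congr($(h) x)).symm
  haveI : IsLocalization.Away r₁ Γ(X, UA) := hV.isLocalization_basicOpen r₁
  haveI : IsLocalization (Algebra.algebraMapSubmonoid Γ(X, V) (Submonoid.powers r)) Γ(X, UA) := by
    rw [Algebra.algebraMapSubmonoid, Submonoid.map_powers]
    assumption
  haveI : IsLocalizedModule (Submonoid.powers r)
      (IsScalarTower.toAlgHom Γ(P, U) Γ(X, V) Γ(X, UA)).toLinearMap := inferInstance
  have hbc : IsBaseChange Γ(P, UB) (IsScalarTower.toAlgHom Γ(P, U) Γ(X, V) Γ(X, UA)).toLinearMap :=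
    IsLocalizedModule.isBaseChange (Submonoid.powers r) Γ(P, UB) _
  refine FlatVia.of_equiv hbc.equiv ?_
  have hflat : ((f ≫ π).appLE W UA hUAW).hom.Flat := Flat.flat_appLE (f ≫ π) hW hUA hUAW
  rw [← Scheme.Hom.appLE_comp_appLE f π W UB UA hr hUAle] at hflat
  exact hflat

/-- **Tor independence.** -/
theorem subsingleton_tor_of_flat_over_base (H : IsPullback ν π' π g) [Flat π] (f : X ⟶ P) [Flat (f ≫ π)]
    (U : P.Opens) (hU : IsAffineOpen U) (U' : P'.Opens) (hU' : IsAffineOpen U') (hle : U' ≤ ν ⁻¹ᵁ U)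
    (V : X.Opens) (hV : IsAffineOpen V) (hVU : V ≤ f ⁻¹ᵁ U) (i : ℕ) (hi : 0 < i) :
    Subsingleton (@DRing.Tor Γ(P, U) _ i Γ(P', U') Γ(X, V) _ (ν.appLE U U' hle).hom.toModule _
      (f.appLE U V hVU).hom.toModule) := by
  letI := (ν.appLE U U' hle).hom.toAlgebra
  letI := (f.appLE U V hVU).hom.toAlgebra
  choose c hc hgood using exists_torChart H f hU hU' hle hV hVU
  exact subsingleton_tor_of_charts c (fun q hq => ⟨⟨q, hq⟩, hc ⟨q, hq⟩⟩) Γ(X, V) hgood i hi

end Groth.Agent.DualFMLib
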