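import Groth.Agent.DualFMLib.Comp

/-!
# Base change of Fourier–Mukai functors
-/

set_option autoImplicit false
set_option linter.style.haveILetI false
set_option backward.isDefEq.respectTransparency false
set_option backward.isDefEq.respectTransparency.types false
set_option maxHeartbeats 1000000
set_option synthInstance.maxHeartbeats 200000

universe u

open CategoryTheory CategoryTheory.Limits AlgebraicGeometry HomologicalComplex
open Groth.Agent.DerLib Groth.Agent.PerfDualLib Groth.Agent.ProjFormLib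

attribute [local instance] HasDerivedCategory.standard

namespace Groth.Agent.DualFMLib

theorem glue_bc {A' A B B' Q' A₁ P : Type*} [Category A'] [Category A] [Category B] [Category B']
    [Category Q'] [Category A₁] [Category P] (i : A' ⥤ A) {Lπ : A ⥤ A₁} {Lp' : A₁ ⥤ B'} {K' : B' ⥤ B'}
    {Rq' : B' ⥤ Q'} {Lp : A ⥤ B} {K : B ⥤ B} {Rq : B ⥤ P} {Lϖ : P ⥤ Q'} {Lm : B ⥤ B'} {L₀ : A ⥤ B'}
    (h₁ : Nonempty (i ⋙ (Lp ⋙ K) ⋙ (Rq ⋙ Lϖ) ≅ i ⋙ (Lp ⋙ K) ⋙ (Lm ⋙ Rq')))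
    (h₂ : Nonempty (K ⋙ Lm ≅ Lm ⋙ K')) (h₃ : Nonempty (Lp ⋙ Lm ≅ L₀))
    (h₄ : Nonempty (Lπ ⋙ Lp' ≅ L₀)) :
    Nonempty (i ⋙ Lπ ⋙ (Lp' ⋙ K' ⋙ Rq') ≅ i ⋙ (Lp ⋙ K ⋙ Rq) ⋙ Lϖ) := by
  obtain ⟨e₁⟩ := h₁
  obtain ⟨e₂⟩ := h₂
  obtain ⟨e₃⟩ := h₃
  obtain ⟨e₄⟩ := h₄
  exact ⟨(Functor.isoWhiskerLeft i (Functor.isoWhiskerRight (e₄ ≪≫ e₃.symm) (K' ⋙ Rq')) :
      i ⋙ Lπ ⋙ (Lp' ⋙ K' ⋙ Rq') ≅ i ⋙ Lp ⋙ (Lm ⋙ K') ⋙ Rq') ≪≫
    (Functor.isoWhiskerLeft i (Functor.isoWhiskerLeft Lp (Functor.isoWhiskerRight e₂.symm Rq')) :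
      i ⋙ Lp ⋙ (Lm ⋙ K') ⋙ Rq' ≅ i ⋙ (Lp ⋙ K) ⋙ (Lm ⋙ Rq')) ≪≫ e₁.symm⟩

variable {S S' X Y : Scheme.{u}} (a : X ⟶ S) (b : Y ⟶ S) (g : S' ⟶ S)

/-- The comparison of double products. -/
noncomputable abbrev bcMap : pullback (pullback.snd a g) (pullback.snd b g) ⟶ pullback a b :=
  pullback.map (pullback.snd a g) (pullback.snd b g) a b (pullback.fst a g) (pullback.fst b g) g
    (pullback.condition).symm (pullback.condition).symm

theorem isPullback_bcMap :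
    IsPullback (bcMap a b g) (pullback.snd (pullback.snd a g) (pullback.snd b g)) (pullback.snd a b)
      (pullback.fst b g) := by
  have h₁ : IsPullback (pullback.fst (pullback.snd a g) (pullback.snd b g) ≫ pullback.fst a g)
      (pullback.snd (pullback.snd a g) (pullback.snd b g)) a (pullback.snd b g ≫ g) :=
    (IsPullback.of_hasPullback (pullback.snd a g) (pullback.snd b g)).paste_horiz
      (IsPullback.of_hasPullback a g)
  rw [show pullback.snd b g ≫ g = pullback.fst b g ≫ b from pullback.condition.symm,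
    show pullback.fst (pullback.snd a g) (pullback.snd b g) ≫ pullback.fst a g =
      bcMap a b g ≫ pullback.fst a b from (pullback.lift_fst _ _ _).symm] at h₁
  exact h₁.of_right (pullback.lift_snd _ _ _) (IsPullback.of_hasPullback a b)

theorem flat_sides (hflat : Flat g ∨ Flat a) :
    Flat (pullback.snd a b) ∨ Flat (pullback.fst b g) :=
  hflat.symm.imp (fun h => MorphismProperty.pullback_snd (P := @Flat) a b h)
    (fun h => MorphismProperty.pullback_fst (P := @Flat) b g h)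

/-- **Base change of transforms.** -/
theorem nonempty_pull_phi [QuasiCompact a] [QuasiSeparated a] (hflat : Flat g ∨ Flat a)
    (K : Cx (pullback a b)) (hK : DCoh.IsQCohD (DCoh.toD _ K))
    [DCoh.HasLpull (pullback.fst a b)] [DCoh.HasLTensorCx K] [DCoh.HasRpush (pullback.snd a b)]
    [DCoh.HasLpull (pullback.fst a g)] [DCoh.HasLpull (pullback.fst b g)] [DCoh.HasLpull (bcMap a b g)]
    (K' : Cx (pullback (pullback.snd a g) (pullback.snd b g)))
    (hK' : Nonempty (DCoh.toD _ K' ≅ (DCoh.Lpull (bcMap a b g)).obj (DCoh.toD _ K)))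
    [DCoh.HasLpull (pullback.fst (pullback.snd a g) (pullback.snd b g))] [DCoh.HasLTensorCx K']
    [DCoh.HasRpush (pullback.snd (pullback.snd a g) (pullback.snd b g))] :
    Nonempty ((DCoh.IsQCohD (X := X)).ι ⋙ DCoh.Lpull (pullback.fst a g) ⋙
        FMK.phi (pullback.snd a g) (pullback.snd b g) K' ≅
      (DCoh.IsQCohD (X := X)).ι ⋙ FMK.phi a b K ⋙ DCoh.Lpull (pullback.fst b g)) := by
  obtain ⟨eK'⟩ := hK'
  obtain ⟨K₀, hK₀, ⟨eK⟩⟩ := exists_flat_rep (DCoh.toD _ K)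
  haveI := KFlatLib.hasLTensorCx K₀
  let M₁ := (pullC (bcMap a b g)).obj K₀
  haveI := KFlatLib.hasLTensorCx M₁
  let lK : DCoh.toD _ M₁ ≅ DCoh.toD _ K' :=
    (KFlatLib.lpullObjIso (bcMap a b g) K₀ hK₀).symm ≪≫ (DCoh.Lpull (bcMap a b g)).mapIso eK ≪≫ eK'.symm
  obtain ⟨c₀⟩ := nonempty_lTensor_congr_iso eK
  obtain ⟨c₁⟩ := nonempty_lTensor_congr_iso lK
  haveI := KFlatLib.hasLpull (bcMap a b g ≫ pullback.fst a b)
  haveI := KFlatLib.hasLpull (pullback.fst (pullback.snd a g) (pullback.snd b g) ≫ pullback.fst a g)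
  obtain ⟨_, _⟩ := qcqs_snd a b
  obtain ⟨tw⟩ := Dual3Lib.nonempty_lTensor_lpull (bcMap a b g) K₀ hK₀
  obtain ⟨e₃⟩ := KFlatLib.lpull_comp (pullback.fst (pullback.snd a g) (pullback.snd b g)) (pullback.fst a g)
  obtain ⟨e₄⟩ := Dual3Lib.nonempty_lpull_congr_nat
    (show pullback.fst (pullback.snd a g) (pullback.snd b g) ≫ pullback.fst a g =
      bcMap a b g ≫ pullback.fst a b from (pullback.lift_fst _ _ _).symm)
  exact glue_bc (DCoh.IsQCohD (X := X)).ι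
    (nonempty_whisker (DCoh.Lpull (pullback.fst a b) ⋙ DCoh.LTensorCx K)
      (fun E hE => KFlatLib.isQCohD_lTensorCx K hK _ (KFlatLib.isQCohD_lpull (pullback.fst a b) E hE))
      (nonempty_bcNat (isPullback_bcMap a b g) (flat_sides a b g hflat)))
    ⟨Functor.isoWhiskerRight c₀.symm _ ≪≫ tw ≪≫ Functor.isoWhiskerLeft _ c₁⟩
    (KFlatLib.lpull_comp _ _) ⟨e₃ ≪≫ e₄⟩

end Groth.Agent.DualFMLib
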