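import Groth.Agent.DualFMLib.Nat

/-!
# Composition of Fourier–Mukai functors
-/

set_option autoImplicit false
set_option linter.style.haveILetI false
set_option backward.isDefEq.respectTransparency false
set_option backward.isDefEq.respectTransparency.types false
set_option maxHeartbeats 1000000
set_option synthInstance.maxHeartbeats 200000

universe u

open CategoryTheory CategoryTheory.Limits AlgebraicGeometry HomologicalComplex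
open Groth.Agent.DerLib Groth.Agent.PerfDualLib Groth.Agent.ProjFormLib

attribute [local instance] HasDerivedCategory.standard

namespace Groth.Agent.DualFMLib

section Glue

variable {A' A B Q P T R Z : Type*} [Category A'] [Category A] [Category B] [Category Q] [Category P]
  [Category T] [Category R] [Category Z]

/-- Gluing the steps of a composite of two transforms. -/
theorem glue_comp (i : A' ⥤ A) {Lp : A ⥤ B} {K : B ⥤ B} {Rq : B ⥤ Q} {Lr : Q ⥤ P} {M : P ⥤ P}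
    {Rt : P ⥤ Z} {Lu : B ⥤ T} {Rv : T ⥤ P} {M' K' P' : T ⥤ T} {Lup : A ⥤ T} {Rvt : T ⥤ Z}
    (h₁ : Nonempty (i ⋙ (Lp ⋙ K) ⋙ (Rq ⋙ Lr) ≅ i ⋙ (Lp ⋙ K) ⋙ (Lu ⋙ Rv)))
    (h₂ : Nonempty (i ⋙ (Lp ⋙ K ⋙ Lu) ⋙ (Rv ⋙ M) ≅ i ⋙ (Lp ⋙ K ⋙ Lu) ⋙ (M' ⋙ Rv)))
    (h₃ : Nonempty (K ⋙ Lu ≅ Lu ⋙ K')) (h₄ : Nonempty (Lp ⋙ Lu ≅ Lup))
    (h₅ : Nonempty (Rv ⋙ Rt ≅ Rvt)) (h₆ : Nonempty (K' ⋙ M' ≅ P')) :
    Nonempty (i ⋙ (Lp ⋙ K ⋙ Rq) ⋙ (Lr ⋙ M ⋙ Rt) ≅ i ⋙ Lup ⋙ P' ⋙ Rvt) := by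
  obtain ⟨e₁⟩ := h₁
  obtain ⟨e₂⟩ := h₂
  obtain ⟨e₃⟩ := h₃
  obtain ⟨e₄⟩ := h₄
  obtain ⟨e₅⟩ := h₅
  obtain ⟨e₆⟩ := h₆
  exact ⟨(Functor.isoWhiskerRight e₁ (M ⋙ Rt) :
      i ⋙ (Lp ⋙ K ⋙ Rq) ⋙ (Lr ⋙ M ⋙ Rt) ≅ (i ⋙ (Lp ⋙ K) ⋙ (Lu ⋙ Rv)) ⋙ (M ⋙ Rt)) ≪≫
    (Functor.isoWhiskerRight e₂ Rt :
      (i ⋙ (Lp ⋙ K) ⋙ (Lu ⋙ Rv)) ⋙ (M ⋙ Rt) ≅ i ⋙ Lp ⋙ (K ⋙ Lu) ⋙ M' ⋙ (Rv ⋙ Rt)) ≪≫
    (Functor.isoWhiskerLeft i (Functor.isoWhiskerLeft Lp (Functor.isoWhiskerRight e₃ (M' ⋙ (Rv ⋙ Rt)))) :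
      i ⋙ Lp ⋙ (K ⋙ Lu) ⋙ M' ⋙ (Rv ⋙ Rt) ≅ i ⋙ (Lp ⋙ Lu) ⋙ (K' ⋙ M') ⋙ (Rv ⋙ Rt)) ≪≫
    Functor.isoWhiskerLeft i (Functor.isoWhiskerRight e₄ ((K' ⋙ M') ⋙ (Rv ⋙ Rt)) ≪≫
      Functor.isoWhiskerLeft Lup (Functor.isoWhiskerRight e₆ (Rv ⋙ Rt) ≪≫
        Functor.isoWhiskerLeft P' e₅))⟩

/-- Gluing the steps of the transform of a pushed forward kernel. -/
theorem glue_push (i : A' ⥤ A) {Lp : A ⥤ P} {N : P ⥤ P} {Rt : P ⥤ Z} {Lw : P ⥤ T} {P' : T ⥤ T}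
    {Rw : T ⥤ P} {Lwp : A ⥤ T} {Rwt : T ⥤ Z}
    (h₁ : Nonempty (i ⋙ Lp ⋙ N ≅ i ⋙ Lp ⋙ (Lw ⋙ P' ⋙ Rw)))
    (h₂ : Nonempty (Lp ⋙ Lw ≅ Lwp)) (h₃ : Nonempty (Rw ⋙ Rt ≅ Rwt)) :
    Nonempty (i ⋙ Lp ⋙ N ⋙ Rt ≅ i ⋙ Lwp ⋙ P' ⋙ Rwt) := by
  obtain ⟨e₁⟩ := h₁
  obtain ⟨e₂⟩ := h₂
  obtain ⟨e₃⟩ := h₃
  exact ⟨(Functor.isoWhiskerRight e₁ Rt :
      i ⋙ Lp ⋙ N ⋙ Rt ≅ i ⋙ (Lp ⋙ Lw) ⋙ P' ⋙ (Rw ⋙ Rt)) ≪≫
    Functor.isoWhiskerLeft i (Functor.isoWhiskerRight e₂ (P' ⋙ (Rw ⋙ Rt)) ≪≫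
      Functor.isoWhiskerLeft Lwp (Functor.isoWhiskerLeft P' e₃))⟩

end Glue

theorem exists_flat_rep {X : Scheme.{u}} (K : DCoh.D X) :
    ∃ P : Cx X, DCoh.IsKFlat P ∧ Nonempty (DerivedCategory.Q.obj P ≅ K) := by
  obtain ⟨P, hP, e⟩ := KFlatLib.exists_good_rep K
  exact ⟨P, hP.1, e⟩

variable {S X Y Z : Scheme.{u}} (a : X ⟶ S) (b : Y ⟶ S) (c : Z ⟶ S)

theorem qcqs_snd (f : X ⟶ S) (g : Y ⟶ S) [QuasiCompact f] [QuasiSeparated f] :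
    QuasiCompact (pullback.snd f g) ∧ QuasiSeparated (pullback.snd f g) :=
  ⟨MorphismProperty.pullback_snd (P := @QuasiCompact) f g inferInstance,
    MorphismProperty.pullback_snd (P := @QuasiSeparated) f g inferInstance⟩

theorem qcqs_fst (f : X ⟶ S) (g : Y ⟶ S) [QuasiCompact g] [QuasiSeparated g] :
    QuasiCompact (pullback.fst f g) ∧ QuasiSeparated (pullback.fst f g) :=
  ⟨MorphismProperty.pullback_fst (P := @QuasiCompact) f g inferInstance,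
    MorphismProperty.pullback_fst (P := @QuasiSeparated) f g inferInstance⟩

theorem qcqs_p13 [QuasiCompact a] [QuasiSeparated a] [QuasiCompact b] [QuasiSeparated b]
    [QuasiCompact c] [QuasiSeparated c] :
    QuasiCompact (FMK.p13 a b c) ∧ QuasiSeparated (FMK.p13 a b c) := by
  obtain ⟨h₁, h₁'⟩ := qcqs_snd b c
  obtain ⟨h₂, h₂'⟩ := qcqs_snd a b
  obtain ⟨h₃, h₃'⟩ := qcqs_snd a c
  obtain ⟨h₄, h₄'⟩ := qcqs_snd (pullback.snd a b) (pullback.fst b c)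
  haveI hc : QuasiCompact (pullback.snd a c ≫ c) := inferInstance
  haveI hs : QuasiSeparated (pullback.snd a c ≫ c) := inferInstance
  have e : FMK.p13 a b c ≫ pullback.snd a c ≫ c = FMK.p23 a b c ≫ pullback.snd b c ≫ c := by
    rw [FMK.p13_snd_assoc]
  haveI : QuasiCompact (FMK.p13 a b c ≫ (pullback.snd a c ≫ c)) := by rw [e]; infer_instance
  haveI : QuasiSeparated (FMK.p13 a b c ≫ (pullback.snd a c ≫ c)) := by rw [e]; infer_instance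
  exact ⟨QuasiCompact.of_comp _ (pullback.snd a c ≫ c), QuasiSeparated.of_comp _ (pullback.snd a c ≫ c)⟩

theorem flat_of_or {X' : Scheme.{u}} {g : Y ⟶ S} {h : Z ⟶ S} (hflat : Flat a ∨ Flat h) :
    Flat (pullback.snd a g) ∨ Flat (pullback.fst g h) :=
  hflat.imp (fun h => MorphismProperty.pullback_snd (P := @Flat) a g h)
    (fun h' => MorphismProperty.pullback_fst (P := @Flat) g h h')

variable [QuasiCompact a] [QuasiSeparated a] [QuasiCompact b] [QuasiSeparated b] [QuasiCompact c]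
  [QuasiSeparated c]

/-- The composite of two transforms, on the triple product. -/
theorem nonempty_middle (hflat : Flat a ∨ Flat c)
    (K : Cx (pullback a b)) (M : Cx (pullback b c))
    (hK : DCoh.IsKFlat K) (hKq : DCoh.IsQCohD (DerivedCategory.Q.obj K))
    (hM : DCoh.IsKFlat M) (hMq : DCoh.IsQCohD (DerivedCategory.Q.obj M))
    [DCoh.HasLpull (pullback.fst a b)] [DCoh.HasLTensorCx K] [DCoh.HasRpush (pullback.snd a b)]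
    [DCoh.HasLpull (pullback.fst b c)] [DCoh.HasLTensorCx M] [DCoh.HasRpush (pullback.snd b c)]
    [DCoh.HasLpull (FMK.p12 a b c ≫ pullback.fst a b)]
    [DCoh.HasRpush (FMK.p23 a b c ≫ pullback.snd b c)]
    [DCoh.HasLTensorCx (((DCoh.tensorCx (X := FMK.T a b c)).obj ((pullC (FMK.p12 a b c)).obj K)).obj
      ((pullC (FMK.p23 a b c)).obj M))] :
    Nonempty ((DCoh.IsQCohD (X := X)).ι ⋙ FMK.phi a b K ⋙ FMK.phi b c M ≅
      (DCoh.IsQCohD (X := X)).ι ⋙ DCoh.Lpull (FMK.p12 a b c ≫ pullback.fst a b) ⋙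
        DCoh.LTensorCx (((DCoh.tensorCx (X := FMK.T a b c)).obj ((pullC (FMK.p12 a b c)).obj K)).obj
          ((pullC (FMK.p23 a b c)).obj M)) ⋙ DCoh.Rpush (FMK.p23 a b c ≫ pullback.snd b c)) := by
  haveI := KFlatLib.hasLpull (FMK.p12 a b c)
  haveI := KFlatLib.hasLpull (FMK.p23 a b c)
  haveI := DCohRestrLib.hasRpush (FMK.p23 a b c)
  haveI := KFlatLib.hasLpull (pullback.snd b c)
  haveI := KFlatLib.hasLpull (FMK.p23 a b c ≫ pullback.snd b c)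
  haveI := KFlatLib.hasLTensorCx ((pullC (FMK.p12 a b c)).obj K)
  haveI := KFlatLib.hasLTensorCx ((pullC (FMK.p23 a b c)).obj M)
  obtain ⟨_, _⟩ := qcqs_snd a b
  obtain ⟨_, _⟩ := qcqs_snd (pullback.snd a b) (pullback.fst b c)
  refine glue_comp (DCoh.IsQCohD (X := X)).ι ?_ ?_ (Dual3Lib.nonempty_lTensor_lpull (FMK.p12 a b c) K hK)
    (KFlatLib.lpull_comp _ _) (KFlatLib.rpush_comp _ _)
    (TensorAssocLib.nonempty_lTensor_comp _ _ (KFlatLib.isKFlat_pull _ hM))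
  · exact nonempty_whisker (DCoh.Lpull (pullback.fst a b) ⋙ DCoh.LTensorCx K)
      (fun E hE => KFlatLib.isQCohD_lTensorCx K hKq _ (KFlatLib.isQCohD_lpull (pullback.fst a b) E hE))
      (nonempty_bcNat (IsPullback.of_hasPullback _ _) (flat_of_or (X' := X) a hflat))
  · exact nonempty_whisker (DCoh.Lpull (pullback.fst a b) ⋙ DCoh.LTensorCx K ⋙ DCoh.Lpull (FMK.p12 a b c))
      (fun E hE => KFlatLib.isQCohD_lpull (FMK.p12 a b c) _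
      (KFlatLib.isQCohD_lTensorCx K hKq _ (KFlatLib.isQCohD_lpull (pullback.fst a b) E hE)))
      (nonempty_projNat (FMK.p23 a b c) M hM hMq)

/-- The transform of the convolution, on the triple product. -/
theorem nonempty_push_kernel (P : Cx (FMK.T a b c)) (hP : DCoh.IsQCohD (DerivedCategory.Q.obj P))
    [DCoh.HasLTensorCx P] [DCoh.HasRpush (FMK.p13 a b c)]
    (N : Cx (pullback a c)) (eN : Nonempty (DerivedCategory.Q.obj N ≅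
      (DCoh.Rpush (FMK.p13 a b c)).obj (DerivedCategory.Q.obj P))) [DCoh.HasLTensorCx N]
    [DCoh.HasLpull (pullback.fst a c)] [DCoh.HasRpush (pullback.snd a c)]
    [DCoh.HasLpull (FMK.p12 a b c ≫ pullback.fst a b)]
    [DCoh.HasRpush (FMK.p23 a b c ≫ pullback.snd b c)] :
    Nonempty ((DCoh.IsQCohD (X := X)).ι ⋙ FMK.phi a c N ≅
      (DCoh.IsQCohD (X := X)).ι ⋙ DCoh.Lpull (FMK.p12 a b c ≫ pullback.fst a b) ⋙
        DCoh.LTensorCx P ⋙ DCoh.Rpush (FMK.p23 a b c ≫ pullback.snd b c)) := by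
  haveI := KFlatLib.hasLpull (FMK.p13 a b c)
  haveI := KFlatLib.hasLpull (pullback.snd a c)
  haveI := KFlatLib.hasLpull (FMK.p13 a b c ≫ pullback.snd a c)
  haveI := KFlatLib.hasLpull (FMK.p13 a b c ≫ pullback.fst a c)
  haveI := DCohRestrLib.hasRpush (FMK.p13 a b c ≫ pullback.snd a c)
  obtain ⟨_, _⟩ := qcqs_p13 a b c
  obtain ⟨eN⟩ := eN
  refine glue_push (DCoh.IsQCohD (X := X)).ι
    (nonempty_whisker _ (fun E hE => KFlatLib.isQCohD_lpull _ E hE)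
      (nonempty_projNat₂ (FMK.p13 a b c) P hP N eN)) ?_ ?_
  · obtain ⟨e₁⟩ := KFlatLib.lpull_comp (FMK.p13 a b c) (pullback.fst a c)
    obtain ⟨e₂⟩ := Dual3Lib.nonempty_lpull_congr_nat (FMK.p13_fst a b c)
    exact ⟨e₁ ≪≫ e₂⟩
  · obtain ⟨e₁⟩ := KFlatLib.rpush_comp (FMK.p13 a b c) (pullback.snd a c)
    obtain ⟨e₂⟩ := Dual3Lib.nonempty_rpush_congr_nat (FMK.p13_snd a b c)
    exact ⟨e₁ ≪≫ e₂⟩

/-- **Composition of transforms.** -/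
theorem nonempty_phi_comp (hflat : Flat a ∨ Flat c)
    (K : Cx (pullback a b)) (M : Cx (pullback b c))
    (hK : DCoh.IsQCohD (DCoh.toD _ K)) (hM : DCoh.IsQCohD (DCoh.toD _ M))
    [DCoh.HasLpull (pullback.fst a b)] [DCoh.HasLTensorCx K] [DCoh.HasRpush (pullback.snd a b)]
    [DCoh.HasLpull (pullback.fst b c)] [DCoh.HasLTensorCx M] [DCoh.HasRpush (pullback.snd b c)]
    [DCoh.HasLpull (FMK.p12 a b c)] [DCoh.HasLpull (FMK.p23 a b c)] [DCoh.HasRpush (FMK.p13 a b c)]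
    [DCoh.HasLpull (pullback.fst a c)] [DCoh.HasRpush (pullback.snd a c)]
    (L : Cx (FMK.T a b c)) [DCoh.HasLTensorCx L]
    (hL : Nonempty (DCoh.toD _ L ≅ (DCoh.Lpull (FMK.p23 a b c)).obj (DCoh.toD _ M)))
    (N : Cx (pullback a c)) [DCoh.HasLTensorCx N]
    (hN : Nonempty (DCoh.toD _ N ≅ FMK.conv a b c K L)) :
    Nonempty ((DCoh.IsQCohD (X := X)).ι ⋙ FMK.phi a c N ≅
      (DCoh.IsQCohD (X := X)).ι ⋙ FMK.phi a b K ⋙ FMK.phi b c M) := by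
  obtain ⟨K₀, hK₀, ⟨eK⟩⟩ := exists_flat_rep (DCoh.toD _ K)
  obtain ⟨M₀, hM₀, ⟨eM⟩⟩ := exists_flat_rep (DCoh.toD _ M)
  obtain ⟨eL⟩ := hL
  obtain ⟨eN⟩ := hN
  haveI := KFlatLib.hasLTensorCx K₀
  haveI := KFlatLib.hasLTensorCx M₀
  haveI := KFlatLib.hasLpull (FMK.p12 a b c ≫ pullback.fst a b)
  haveI := DCohRestrLib.hasRpush (FMK.p23 a b c ≫ pullback.snd b c)
  let u' := FMK.p12 a b c
  let v' := FMK.p23 a b c
  let M' := (pullC v').obj M₀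
  haveI := KFlatLib.hasLTensorCx M'
  let P := ((DCoh.tensorCx (X := FMK.T a b c)).obj ((pullC u').obj K₀)).obj M'
  haveI := KFlatLib.hasLTensorCx P
  have hKq : DCoh.IsQCohD (DerivedCategory.Q.obj K₀) := KFlatLib.isQCohD_iso eK.symm hK
  have hMq : DCoh.IsQCohD (DerivedCategory.Q.obj M₀) := KFlatLib.isQCohD_iso eM.symm hM
  let lK : DCoh.toD _ ((pullC u').obj K₀) ≅ (DCoh.Lpull u').obj (DCoh.toD _ K) :=
    (KFlatLib.lpullObjIso u' K₀ hK₀).symm ≪≫ (DCoh.Lpull u').mapIso eK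
  let lM : DCoh.toD _ M' ≅ DCoh.toD _ L :=
    (KFlatLib.lpullObjIso v' M₀ hM₀).symm ≪≫ (DCoh.Lpull v').mapIso eM ≪≫ eL.symm
  obtain ⟨tP⟩ := KFlatLib.exists_lTensorCxObjIso M' ((pullC u').obj K₀) (KFlatLib.isKFlat_pull u' hK₀)
  obtain ⟨cM⟩ := nonempty_lTensor_congr_iso lM
  have hKu : DCoh.IsQCohD (DCoh.toD _ ((pullC u').obj K₀)) :=
    KFlatLib.isQCohD_iso lK.symm (KFlatLib.isQCohD_lpull u' _ hK)
  have hM' : DCoh.IsQCohD (DCoh.toD _ M') :=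
    KFlatLib.isQCohD_iso (lM ≪≫ eL).symm (KFlatLib.isQCohD_lpull v' _ hM)
  have hP : DCoh.IsQCohD (DerivedCategory.Q.obj P) :=
    KFlatLib.isQCohD_iso tP (KFlatLib.isQCohD_lTensorCx M' hM' _ hKu)
  obtain ⟨e₁⟩ := nonempty_push_kernel a b c P hP N ⟨eN ≪≫ (DCoh.Rpush (FMK.p13 a b c)).mapIso
    ((DCoh.LTensorCx L).mapIso lK.symm ≪≫ (cM.app _).symm ≪≫ tP)⟩
  obtain ⟨e₂⟩ := nonempty_middle a b c hflat K₀ M₀ hK₀ hKq hM₀ hMq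
  obtain ⟨cK⟩ := nonempty_lTensor_congr_iso eK
  obtain ⟨cM₀⟩ := nonempty_lTensor_congr_iso eM
  exact ⟨e₁ ≪≫ e₂.symm ≪≫ Functor.isoWhiskerLeft _
    (Functor.isoWhiskerRight (Functor.isoWhiskerLeft _ (Functor.isoWhiskerRight cK _)) _ ≪≫
      Functor.isoWhiskerLeft _ (Functor.isoWhiskerLeft _ (Functor.isoWhiskerRight cM₀ _)))⟩

end Groth.Agent.DualFMLib
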