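import Groth.Agent.DualFMLib.Comp
import Groth.Agent.Dual3Lib.Chart
import Groth.Agent.Dual3Lib.PerfPush
import Groth.Agent.CohGenLib.Pro
import Groth.Agent.KFlatLib.FreeModel
import Groth.Agent.KoszOrthLib.Neg

/-!
# Convolution of perfect kernels
-/

set_option autoImplicit false
set_option linter.style.haveILetI false
set_option backward.isDefEq.respectTransparency false
set_option backward.isDefEq.respectTransparency.types false
set_option maxHeartbeats 1000000
set_option synthInstance.maxHeartbeats 200000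

universe u

open CategoryTheory CategoryTheory.Limits AlgebraicGeometry HomologicalComplex
open Groth.Agent.DerLib Groth.Agent.PerfDualLib Groth.Agent.ProjFormLib

attribute [local instance] HasDerivedCategory.standard

namespace Groth.Agent.DualFMLib

/-- For flat morphisms the termwise inverse image computes `Lf^*`. -/
theorem nonempty_cxPull_iso {X Y : Scheme.{u}} (f : X ⟶ Y) [Flat f] [DCoh.HasLpull f] (M : Cx Y) :
    Nonempty (DCoh.toD X ((FMK.cxPull f).obj M) ≅ (DCoh.Lpull f).obj (DCoh.toD Y M)) := by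
  haveI := CohGenLib.preservesFiniteLimits_pullback_flat f
  haveI : (Scheme.Modules.pullback f).PreservesHomology := inferInstance
  let q : (KFlatLib.resP Y).obj M ⟶ M := (KFlatLib.resψ Y).app M
  haveI : QuasiIso q := KFlatLib.quasiIso_resψ M
  haveI : QuasiIso ((FMK.cxPull f).map q) := HomologicalComplex.quasiIso_map_of_preservesHomology _ _
  exact ⟨(asIso (DerivedCategory.Q.map ((FMK.cxPull f).map q))).symm ≪≫
    (KFlatLib.lpullObjIso f _ (KFlatLib.good_resP M).1).symm ≪≫
    (DCoh.Lpull f).mapIso (asIso (DerivedCategory.Q.map q))⟩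

variable {S X Y Z : Scheme.{u}} (a : X ⟶ S) (b : Y ⟶ S) (c : Z ⟶ S)

/-- The triple product over the outer double product. -/
theorem isPullback_p13 :
    IsPullback (FMK.p13 a b c) (FMK.p12 a b c ≫ pullback.snd a b) (pullback.fst a c ≫ a) b := by
  refine IsPullback.of_isLimit' ⟨by simp [pullback.condition]⟩
    (PullbackCone.IsLimit.mk _ (fun s => pullback.lift
      (pullback.lift (s.fst ≫ pullback.fst a c) s.snd (by rw [Category.assoc]; exact s.condition))
      (pullback.lift s.snd (s.fst ≫ pullback.snd a c)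
        (by rw [Category.assoc, ← pullback.condition]; exact s.condition.symm))
      (by simp)) (fun s => ?_) (fun s => ?_) fun s m h₁ h₂ => ?_)
  · apply pullback.hom_ext <;> simp [FMK.p12, FMK.p23]
  · simp [FMK.p12]
  · apply pullback.hom_ext <;> apply pullback.hom_ext
    · simp [FMK.p12, ← h₁]
    · simp [FMK.p12, ← h₂]
    · simp [FMK.p12, ← h₂, pullback.condition]
    · simp [FMK.p23, ← h₁]

/-- The outer projection of the triple product is flat and proper when `Y ⟶ S` is. -/
theorem flat_p13 [Flat b] : Flat (FMK.p13 a b c) :=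
  MorphismProperty.of_isPullback (isPullback_p13 a b c).flip ‹Flat b›

theorem isProper_p13 [IsProper b] : IsProper (FMK.p13 a b c) :=
  MorphismProperty.of_isPullback (isPullback_p13 a b c).flip ‹IsProper b›

theorem lfp_p13 [LocallyOfFinitePresentation b] : LocallyOfFinitePresentation (FMK.p13 a b c) :=
  MorphismProperty.of_isPullback (isPullback_p13 a b c).flip ‹LocallyOfFinitePresentation b›

/-- The kernel conditions: the derived inverse image is the termwise one. -/
theorem flat_p23 [Flat a] : Flat (FMK.p23 a b c) :=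
  MorphismProperty.pullback_snd (P := @Flat) _ _ (MorphismProperty.pullback_snd (P := @Flat) a b ‹Flat a›)

/-- **The convolution of perfect kernels is perfect.** -/
theorem isPerfect_conv [IsLocallyNoetherian (pullback a c)] [Flat a] [IsProper b] [Flat b]
    [LocallyOfFinitePresentation b]
    (K : Cx (pullback a b)) (M : Cx (pullback b c))
    (hK : DCoh.IsPerfect (DCoh.toD _ K)) (hM : DCoh.IsPerfect (DCoh.toD _ M))
    [DCoh.HasLpull (FMK.p12 a b c)] [DCoh.HasLTensorCx ((FMK.cxPull (FMK.p23 a b c)).obj M)]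
    [DCoh.HasRpush (FMK.p13 a b c)] :
    DCoh.IsPerfect (FMK.conv a b c K ((FMK.cxPull (FMK.p23 a b c)).obj M)) := by
  haveI := flat_p13 a b c
  haveI := isProper_p13 a b c
  haveI := lfp_p13 a b c
  haveI := flat_p23 a b c
  haveI := KFlatLib.hasLpull (FMK.p23 a b c)
  let L := (FMK.cxPull (FMK.p23 a b c)).obj M
  obtain ⟨eL⟩ := nonempty_cxPull_iso (FMK.p23 a b c) M
  obtain ⟨L₀, hL₀, ⟨e₀⟩⟩ := exists_flat_rep (DCoh.toD _ L)
  haveI := KFlatLib.hasLTensorCx L₀
  obtain ⟨c₀⟩ := nonempty_lTensor_congr_iso e₀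
  have hLp : DCoh.IsPerfect (DerivedCategory.Q.obj L₀) :=
    PerfLib.isPerfect_of_iso (e₀ ≪≫ eL).symm (KFlatLib.isPerfect_lpull _ _ hM)
  exact Dual3Lib.isPerfect_rpush_of_perfectMor _ (Dual3Lib.isPerfectMor_of_flat _)
    (PerfLib.isPerfect_of_iso (c₀.app _) (KFlatLib.isPerfect_lTensor L₀ hL₀ hLp _
      (KFlatLib.isPerfect_lpull _ _ hK)))

end Groth.Agent.DualFMLib
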