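import Groth.Agent.DualFMLib.BaseChange
import Groth.Agent.DualFMLib.ConvPerf

/-!
# Base change of convolutions
-/

set_option autoImplicit false
set_option linter.style.haveILetI false
set_option backward.isDefEq.respectTransparency false
set_option backward.isDefEq.respectTransparency.types false
set_option maxHeartbeats 1000000
set_option synthInstance.maxHeartbeats 200000

universe u

open CategoryTheory CategoryTheory.Limits AlgebraicGeometry HomologicalComplex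
open Groth.Agent.DerLib Groth.Agent.PerfDualLib Groth.Agent.ProjFormLib

attribute [local instance] HasDerivedCategory.standard

namespace Groth.Agent.DualFMLib

/-- Two composites of inverse images along a commutative square agree. -/
theorem nonempty_lpull_sq {A B C D : Scheme.{u}} (p : A ⟶ B) (q : B ⟶ D) (p' : A ⟶ C) (q' : C ⟶ D)
    (h : p ≫ q = p' ≫ q') [DCoh.HasLpull p] [DCoh.HasLpull q] [DCoh.HasLpull p'] [DCoh.HasLpull q'] :
    Nonempty (DCoh.Lpull q ⋙ DCoh.Lpull p ≅ DCoh.Lpull q' ⋙ DCoh.Lpull p') := by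
  haveI := KFlatLib.hasLpull (p ≫ q)
  haveI := KFlatLib.hasLpull (p' ≫ q')
  obtain ⟨e₁⟩ := KFlatLib.lpull_comp p q
  obtain ⟨e₂⟩ := KFlatLib.lpull_comp p' q'
  obtain ⟨e₃⟩ := Dual3Lib.nonempty_lpull_congr_nat h
  exact ⟨e₁ ≪≫ e₃ ≪≫ e₂.symm⟩

variable {S S' X Y Z : Scheme.{u}} (a : X ⟶ S) (b : Y ⟶ S) (c : Z ⟶ S) (g : S' ⟶ S)

/-- The comparison of triple products. -/
noncomputable def bcT : FMK.T (pullback.snd a g) (pullback.snd b g) (pullback.snd c g) ⟶ FMK.T a b c :=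
  pullback.map _ _ _ _ (bcMap a b g) (bcMap b c g) (pullback.fst b g)
    (pullback.lift_snd _ _ _).symm (pullback.lift_fst _ _ _).symm

theorem bcT_p12 :
    bcT a b c g ≫ FMK.p12 a b c =
      FMK.p12 (pullback.snd a g) (pullback.snd b g) (pullback.snd c g) ≫ bcMap a b g :=
  pullback.lift_fst _ _ _

theorem bcT_p23 :
    bcT a b c g ≫ FMK.p23 a b c =
      FMK.p23 (pullback.snd a g) (pullback.snd b g) (pullback.snd c g) ≫ bcMap b c g :=
  pullback.lift_snd _ _ _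

theorem bcT_p13 :
    bcT a b c g ≫ FMK.p13 a b c =
      FMK.p13 (pullback.snd a g) (pullback.snd b g) (pullback.snd c g) ≫ bcMap a c g := by
  apply pullback.hom_ext
  · simp only [Category.assoc, FMK.p13_fst, reassoc_of% (bcT_p12 a b c g), pullback.lift_fst,
      FMK.p13_fst_assoc]
  · simp only [Category.assoc, FMK.p13_snd, reassoc_of% (bcT_p23 a b c g), pullback.lift_snd,
      FMK.p13_snd_assoc]

theorem isPullback_bcT :
    IsPullback (bcT a b c g) (FMK.p13 (pullback.snd a g) (pullback.snd b g) (pullback.snd c g))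
      (FMK.p13 a b c) (bcMap a c g) := by
  have h₁ := (isPullback_p13 (pullback.snd a g) (pullback.snd b g) (pullback.snd c g)).flip.paste_horiz
    (IsPullback.of_hasPullback b g)
  have e₁ : (FMK.p12 (pullback.snd a g) (pullback.snd b g) (pullback.snd c g) ≫
      pullback.snd (pullback.snd a g) (pullback.snd b g)) ≫ pullback.fst b g =
      bcT a b c g ≫ FMK.p12 a b c ≫ pullback.snd a b := by
    rw [reassoc_of% (bcT_p12 a b c g), pullback.lift_snd, Category.assoc]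
  have e₂ : (pullback.fst (pullback.snd a g) (pullback.snd c g) ≫ pullback.snd a g) ≫ g =
      bcMap a c g ≫ pullback.fst a c ≫ a := by
    rw [pullback.lift_fst_assoc, Category.assoc, Category.assoc, pullback.condition]
  rw [e₁, e₂] at h₁
  exact h₁.of_right (bcT_p13 a b c g) (isPullback_p13 a b c).flip

/-- **Base change of convolutions.** -/
theorem nonempty_pull_conv [Flat a] [Flat b] [QuasiCompact b] [QuasiSeparated b]
    (K : Cx (pullback a b)) (M : Cx (pullback b c))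
    (hK : DCoh.IsQCohD (DCoh.toD _ K)) (hM : DCoh.IsQCohD (DCoh.toD _ M))
    [DCoh.HasLpull (FMK.p12 a b c)] [DCoh.HasLTensorCx ((FMK.cxPull (FMK.p23 a b c)).obj M)]
    [DCoh.HasRpush (FMK.p13 a b c)]
    [DCoh.HasLpull (bcMap a b g)] [DCoh.HasLpull (bcMap b c g)] [DCoh.HasLpull (bcMap a c g)]
    (K₁ : Cx (pullback (pullback.snd a g) (pullback.snd b g)))
    (hK₁ : Nonempty (DCoh.toD _ K₁ ≅ (DCoh.Lpull (bcMap a b g)).obj (DCoh.toD _ K)))
    (M₁ : Cx (pullback (pullback.snd b g) (pullback.snd c g)))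
    (hM₁ : Nonempty (DCoh.toD _ M₁ ≅ (DCoh.Lpull (bcMap b c g)).obj (DCoh.toD _ M)))
    [DCoh.HasLpull (FMK.p12 (pullback.snd a g) (pullback.snd b g) (pullback.snd c g))]
    [DCoh.HasLTensorCx ((FMK.cxPull (FMK.p23 (pullback.snd a g) (pullback.snd b g) (pullback.snd c g))).obj M₁)]
    [DCoh.HasRpush (FMK.p13 (pullback.snd a g) (pullback.snd b g) (pullback.snd c g))] :
    Nonempty ((DCoh.Lpull (bcMap a c g)).obj (FMK.conv a b c K ((FMK.cxPull (FMK.p23 a b c)).obj M)) ≅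
      FMK.conv (pullback.snd a g) (pullback.snd b g) (pullback.snd c g) K₁
        ((FMK.cxPull (FMK.p23 (pullback.snd a g) (pullback.snd b g) (pullback.snd c g))).obj M₁)) := by
  obtain ⟨eK₁⟩ := hK₁
  obtain ⟨eM₁⟩ := hM₁
  haveI := flat_p13 a b c
  haveI := flat_p23 a b c
  haveI : Flat (pullback.snd a g) := MorphismProperty.pullback_snd (P := @Flat) a g ‹_›
  haveI := flat_p23 (pullback.snd a g) (pullback.snd b g) (pullback.snd c g)
  haveI : QuasiCompact (FMK.p13 a b c) :=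
    MorphismProperty.of_isPullback (isPullback_p13 a b c).flip ‹QuasiCompact b›
  haveI : QuasiSeparated (FMK.p13 a b c) :=
    MorphismProperty.of_isPullback (isPullback_p13 a b c).flip ‹QuasiSeparated b›
  haveI := KFlatLib.hasLpull (bcT a b c g)
  haveI := KFlatLib.hasLpull (FMK.p23 a b c)
  haveI := KFlatLib.hasLpull (FMK.p23 (pullback.snd a g) (pullback.snd b g) (pullback.snd c g))
  obtain ⟨eL⟩ := nonempty_cxPull_iso (FMK.p23 a b c) M
  obtain ⟨eL'⟩ := nonempty_cxPull_iso (FMK.p23 (pullback.snd a g) (pullback.snd b g) (pullback.snd c g)) M₁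
  obtain ⟨L₀, hL₀, ⟨e₀⟩⟩ := exists_flat_rep (DCoh.toD _ ((FMK.cxPull (FMK.p23 a b c)).obj M))
  haveI := KFlatLib.hasLTensorCx L₀
  let L₁ := (pullC (bcT a b c g)).obj L₀
  haveI := KFlatLib.hasLTensorCx L₁
  obtain ⟨c₀⟩ := nonempty_lTensor_congr_iso e₀
  obtain ⟨tw⟩ := Dual3Lib.nonempty_lTensor_lpull (bcT a b c g) L₀ hL₀
  obtain ⟨q₂₃⟩ := nonempty_lpull_sq _ _ _ _ (bcT_p23 a b c g)
  obtain ⟨q₁₂⟩ := nonempty_lpull_sq _ _ _ _ (bcT_p12 a b c g)
  let lL : DCoh.toD _ L₁ ≅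
      DCoh.toD _ ((FMK.cxPull (FMK.p23 (pullback.snd a g) (pullback.snd b g) (pullback.snd c g))).obj M₁) :=
    (KFlatLib.lpullObjIso (bcT a b c g) L₀ hL₀).symm ≪≫ (DCoh.Lpull (bcT a b c g)).mapIso (e₀ ≪≫ eL) ≪≫
      q₂₃.app _ ≪≫ (DCoh.Lpull _).mapIso eM₁.symm ≪≫ eL'.symm
  obtain ⟨c₁⟩ := nonempty_lTensor_congr_iso lL
  have hLq : DCoh.IsQCohD (DCoh.toD _ ((FMK.cxPull (FMK.p23 a b c)).obj M)) :=
    KFlatLib.isQCohD_iso eL.symm (KFlatLib.isQCohD_lpull (FMK.p23 a b c) _ hM)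
  let A := (DCoh.Lpull (FMK.p12 a b c)).obj (DCoh.toD _ K)
  let E := (DCoh.LTensorCx ((FMK.cxPull (FMK.p23 a b c)).obj M)).obj A
  have hE : DCoh.IsQCohD E :=
    KFlatLib.isQCohD_lTensorCx _ hLq _ (KFlatLib.isQCohD_lpull (FMK.p12 a b c) _ hK)
  obtain ⟨bc⟩ := nonempty_bcNat (isPullback_bcT a b c g) (Or.inl inferInstance)
  let eA : (DCoh.Lpull (bcT a b c g)).obj A ≅
      (DCoh.Lpull (FMK.p12 (pullback.snd a g) (pullback.snd b g) (pullback.snd c g))).obj (DCoh.toD _ K₁) :=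
    q₁₂.app _ ≪≫ (DCoh.Lpull _).mapIso eK₁.symm
  let eE : (DCoh.Lpull (bcT a b c g)).obj E ≅
      (DCoh.LTensorCx ((FMK.cxPull (FMK.p23 (pullback.snd a g) (pullback.snd b g) (pullback.snd c g))).obj M₁)).obj
        ((DCoh.Lpull (FMK.p12 (pullback.snd a g) (pullback.snd b g) (pullback.snd c g))).obj (DCoh.toD _ K₁)) :=
    (DCoh.Lpull (bcT a b c g)).mapIso (c₀.symm.app A) ≪≫ tw.app A ≪≫ c₁.app _ ≪≫ (DCoh.LTensorCx _).mapIso eA
  exact ⟨bc.app ⟨E, hE⟩ ≪≫ (DCoh.Rpush _).mapIso eE⟩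

end Groth.Agent.DualFMLib
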