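import Groth.Agent.DualFMLib.TorSch
import Groth.Agent.DualFMLib.ConvBC
import Groth.Agent.BoxSurjLib.DiagKernel
import Groth.Agent.KiehlLib.ExtFin
import Groth.Agent.PerfBaseLib.FlatProper
import Groth.Agent.KoszOrthLib.Neg

/-!
# Base change of the diagonal
-/

set_option autoImplicit false
set_option linter.style.haveILetI false
set_option backward.isDefEq.respectTransparency false
set_option backward.isDefEq.respectTransparency.types false
set_option maxHeartbeats 1000000
set_option synthInstance.maxHeartbeats 200000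

universe u

open CategoryTheory CategoryTheory.Limits AlgebraicGeometry HomologicalComplex
open Groth.Agent.DerLib Groth.Agent.PerfDualLib Groth.Agent.ProjFormLib

attribute [local instance] HasDerivedCategory.standard

namespace Groth.Agent.DualFMLib

/-- The direct image of the structure sheaf by a closed immersion. -/
theorem nonempty_rpush_unit {X P : Scheme.{u}} (i : X ⟶ P) [IsClosedImmersion i] [DCoh.HasRpush i] :
    Nonempty ((DCoh.Rpush i).obj (DerivedCategory.Q.obj (unitCx X)) ≅
      DCoh.inD P ((Coh.push i).obj (Coh.structureModule X))) := by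
  haveI := BoxSurjLib.isIso_pushQ_closed i (unitCx X)
  exact ⟨(asIso (Dual3Lib.pushQ i (unitCx X))).symm ≪≫
    DerivedCategory.Q.mapIso ((HomologicalComplex.singleMapHomologicalComplex (Scheme.Modules.pushforward i)
        (ComplexShape.up ℤ) 0).app (Coh.structureModule X)) ≪≫
    ((DerivedCategory.singleFunctorIsoCompQ P.Modules 0).app _).symm⟩

variable {S S' X : Scheme.{u}} (a : X ⟶ S) (g : S' ⟶ S)

theorem isPullback_prod :
    IsPullback (bcMap a a g)
      (pullback.snd (pullback.snd a g) (pullback.snd a g) ≫ pullback.snd a g)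
      (pullback.snd a a ≫ a) g :=
  (isPullback_bcMap a a g).paste_vert (IsPullback.of_hasPullback a g)

theorem isPullback_diagonal :
    IsPullback (pullback.fst a g) (pullback.diagonal (pullback.snd a g)) (pullback.diagonal a)
      (bcMap a a g) := by
  have h : IsPullback (pullback.fst a g) (pullback.diagonal (pullback.snd a g) ≫
      pullback.snd (pullback.snd a g) (pullback.snd a g) ≫ pullback.snd a g)
      (pullback.diagonal a ≫ pullback.snd a a ≫ a) g := by
    rw [pullback.diagonal_snd_assoc, pullback.diagonal_snd_assoc]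
    exact IsPullback.of_hasPullback a g
  refine IsPullback.of_bot h ?_ (isPullback_prod a g)
  apply pullback.hom_ext <;>
    simp [pullback.diagonal_fst_assoc, pullback.diagonal_snd_assoc, pullback.lift_fst, pullback.lift_snd]

/-- **The diagonal commutes with base change.** -/
theorem nonempty_pull_diagO [IsSeparated a] [Flat a] [QuasiCompact a] [DCoh.HasLpull (bcMap a a g)] :
    Nonempty ((DCoh.Lpull (bcMap a a g)).obj (FMK.diagO a) ≅ FMK.diagO (pullback.snd a g)) := by
  haveI : IsSeparated (pullback.snd a g) := MorphismProperty.pullback_snd (P := @IsSeparated) a g ‹_›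
  haveI := DCohRestrLib.hasRpush (pullback.diagonal a)
  haveI := DCohRestrLib.hasRpush (pullback.diagonal (pullback.snd a g))
  haveI := DCohRestrLib.hasRpush (pullback.fst a g)
  haveI := DCohRestrLib.hasRpush (bcMap a a g)
  haveI := KFlatLib.hasLpull (pullback.fst a g)
  haveI : Flat (pullback.snd a a ≫ a) :=
    MorphismProperty.comp_mem _ _ _ (MorphismProperty.pullback_snd (P := @Flat) a a ‹_›) ‹_›
  haveI : Flat (pullback.diagonal a ≫ pullback.snd a a ≫ a) := by
    rw [pullback.diagonal_snd_assoc]; infer_instance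
  have hq : DCoh.IsQCohD (DerivedCategory.Q.obj (unitCx X)) := by
    exact KoszOrthLib.isQCohD_of_isPerfect (PerfBaseLib.isPerfect_unitCx X)
  have hiso := DerBCLib.isIso_baseChangeApp (isPullback_diagonal a g)
    (KFlatLib.lpullRpushAdj (bcMap a a g)) (KFlatLib.lpullRpushAdj (pullback.fst a g))
    (fun T hT hTq => DerBCLib.hasLocModel_tor hT hTq fun U hU U' hU' e V hV e' i hi =>
      subsingleton_tor_of_flat_over_base (isPullback_prod a g) (pullback.diagonal a) U hU U' hU' e V hV e' i hi)
    (DerivedCategory.Q.obj (unitCx X)) hq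
  obtain ⟨e₁⟩ := nonempty_rpush_unit (pullback.diagonal a)
  obtain ⟨e₂⟩ := nonempty_rpush_unit (pullback.diagonal (pullback.snd a g))
  exact ⟨(DCoh.Lpull (bcMap a a g)).mapIso e₁.symm ≪≫ @asIso _ _ _ _ _ hiso ≪≫
    (DCoh.Rpush _).mapIso (KiehlLib.lpullUnitIso (pullback.fst a g)) ≪≫ e₂⟩

variable {Y : Scheme.{u}} (b : Y ⟶ S)

/-- One relation of a kernel pair, after base change. -/
theorem nonempty_rel_bc [IsSeparated a] [Flat a] [QuasiCompact a] [Flat b] [QuasiCompact b] [QuasiSeparated b]
    (K : Cx (pullback a b)) (K' : Cx (pullback b a))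
    (hK : DCoh.IsQCohD (DCoh.toD _ K)) (hK' : DCoh.IsQCohD (DCoh.toD _ K'))
    [DCoh.HasLpull (FMK.p12 a b a)] [DCoh.HasLTensorCx ((FMK.cxPull (FMK.p23 a b a)).obj K')]
    [DCoh.HasRpush (FMK.p13 a b a)]
    [DCoh.HasLpull (bcMap a b g)] [DCoh.HasLpull (bcMap b a g)]
    (h : Nonempty (FMK.diagO a ≅ FMK.conv a b a K ((FMK.cxPull (FMK.p23 a b a)).obj K')))
    (K₁ : Cx (pullback (pullback.snd a g) (pullback.snd b g)))
    (hK₁ : Nonempty (DCoh.toD _ K₁ ≅ (DCoh.Lpull (bcMap a b g)).obj (DCoh.toD _ K)))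
    (K₁' : Cx (pullback (pullback.snd b g) (pullback.snd a g)))
    (hK₁' : Nonempty (DCoh.toD _ K₁' ≅ (DCoh.Lpull (bcMap b a g)).obj (DCoh.toD _ K')))
    [DCoh.HasLpull (FMK.p12 (pullback.snd a g) (pullback.snd b g) (pullback.snd a g))]
    [DCoh.HasLTensorCx ((FMK.cxPull (FMK.p23 (pullback.snd a g) (pullback.snd b g) (pullback.snd a g))).obj K₁')]
    [DCoh.HasRpush (FMK.p13 (pullback.snd a g) (pullback.snd b g) (pullback.snd a g))] :
    Nonempty (FMK.diagO (pullback.snd a g) ≅
      FMK.conv (pullback.snd a g) (pullback.snd b g) (pullback.snd a g) K₁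
        ((FMK.cxPull (FMK.p23 (pullback.snd a g) (pullback.snd b g) (pullback.snd a g))).obj K₁')) := by
  haveI := KFlatLib.hasLpull (bcMap a a g)
  obtain ⟨h⟩ := h
  obtain ⟨d⟩ := nonempty_pull_diagO a g
  obtain ⟨c⟩ := nonempty_pull_conv a b a g K K' hK hK' K₁ hK₁ K₁' hK₁'
  exact ⟨d.symm ≪≫ (DCoh.Lpull (bcMap a a g)).mapIso h ≪≫ c⟩

end Groth.Agent.DualFMLib
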