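import Groth.Agent.DualFMLib.ConvPerf
import Groth.Agent.KiehlLib.Perfect
import Groth.Agent.DepthLib.Codepth

/-!
# Kernels of relative equivalences give equivalences
-/

set_option autoImplicit false
set_option linter.style.haveILetI false
set_option backward.isDefEq.respectTransparency false
set_option backward.isDefEq.respectTransparency.types false
set_option maxHeartbeats 1000000
set_option synthInstance.maxHeartbeats 200000

universe u

open CategoryTheory CategoryTheory.Limits AlgebraicGeometry HomologicalComplex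
open Groth.Agent.DerLib Groth.Agent.PerfDualLib Groth.Agent.ProjFormLib

attribute [local instance] HasDerivedCategory.standard

namespace Groth.Agent.DualFMLib

/-- Mutually inverse functors on full subcategories. -/
theorem isEquivalence_lift {C D : Type*} [Category C] [Category D] (P : ObjectProperty C)
    (Q : ObjectProperty D) (F : C ⥤ D) (G : D ⥤ C) (hF : ∀ M, P M → Q (F.obj M))
    (hG : ∀ N, Q N → P (G.obj N)) (e₁ : Nonempty (P.ι ⋙ F ⋙ G ≅ P.ι))
    (e₂ : Nonempty (Q.ι ⋙ G ⋙ F ≅ Q.ι)) :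
    (Q.lift (P.ι ⋙ F) fun M => hF M.obj M.property).IsEquivalence := by
  obtain ⟨e₁⟩ := e₁
  obtain ⟨e₂⟩ := e₂
  let F' := Q.lift (P.ι ⋙ F) fun M => hF M.obj M.property
  let G' := P.lift (Q.ι ⋙ G) fun M => hG M.obj M.property
  let u : F' ⋙ G' ≅ 𝟭 _ := Functor.fullyFaithfulCancelRight P.ι
    ((e₁ : (F' ⋙ G') ⋙ P.ι ≅ P.ι) ≪≫ (Functor.leftUnitor _).symm)
  let v : G' ⋙ F' ≅ 𝟭 _ := Functor.fullyFaithfulCancelRight Q.ι
    ((e₂ : (G' ⋙ F') ⋙ Q.ι ≅ Q.ι) ≪≫ (Functor.leftUnitor _).symm)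
  exact (CategoryTheory.Equivalence.mk F' G' u.symm v).isEquivalence_functor

variable {S X Y : Scheme.{u}} (a : X ⟶ S) (b : Y ⟶ S)

/-- A pair of kernels with convolution the diagonal gives functors composing to the identity. -/
theorem nonempty_comp_iso_id [IsSeparated a] [Flat a] [QuasiCompact a] [QuasiCompact b] [QuasiSeparated b]
    (K : Cx (pullback a b)) (K' : Cx (pullback b a))
    (hK : DCoh.IsPerfect (DCoh.toD _ K)) (hK' : DCoh.IsPerfect (DCoh.toD _ K'))
    [DCoh.HasLpull (pullback.fst a b)] [DCoh.HasLTensorCx K] [DCoh.HasRpush (pullback.snd a b)]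
    [DCoh.HasLpull (pullback.fst b a)] [DCoh.HasLTensorCx K'] [DCoh.HasRpush (pullback.snd b a)]
    [DCoh.HasLpull (FMK.p12 a b a)] [DCoh.HasRpush (FMK.p13 a b a)]
    [DCoh.HasLTensorCx ((FMK.cxPull (FMK.p23 a b a)).obj K')]
    (h : Nonempty (FMK.diagO a ≅ FMK.conv a b a K ((FMK.cxPull (FMK.p23 a b a)).obj K'))) :
    Nonempty ((DCoh.IsQCohD (X := X)).ι ⋙ FMK.phi a b K ⋙ FMK.phi b a K' ≅ (DCoh.IsQCohD (X := X)).ι) := by
  obtain ⟨h⟩ := h
  haveI := flat_p23 a b a
  haveI := KFlatLib.hasLpull (FMK.p23 a b a)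
  haveI := KFlatLib.hasLpull (pullback.fst a a)
  haveI := DCohRestrLib.hasRpush (pullback.snd a a)
  let N : Cx (pullback a a) := DerivedCategory.Q.objPreimage (FMK.diagO a)
  haveI := KFlatLib.hasLTensorCx N
  let eN : DerivedCategory.Q.obj N ≅ FMK.diagO a := DerivedCategory.Q.objObjPreimageIso _
  obtain ⟨e₁⟩ := nonempty_phi_comp a b a (Or.inl inferInstance) K K'
    (KoszOrthLib.isQCohD_of_isPerfect hK) (KoszOrthLib.isQCohD_of_isPerfect hK')
    ((FMK.cxPull (FMK.p23 a b a)).obj K') (nonempty_cxPull_iso (FMK.p23 a b a) K') N ⟨eN ≪≫ h⟩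
  obtain ⟨e₂⟩ := BoxSurjLib.nonempty_phi_diag a N ⟨eN⟩
  exact ⟨e₁.symm ≪≫ Functor.isoWhiskerLeft _ e₂ ≪≫ Functor.rightUnitor _⟩

/-- Transforms preserve quasi-coherence. -/
theorem isQCohD_phi [QuasiCompact a] [QuasiSeparated a] (K : Cx (pullback a b))
    (hK : DCoh.IsQCohD (DCoh.toD _ K))
    [DCoh.HasLpull (pullback.fst a b)] [DCoh.HasLTensorCx K] [DCoh.HasRpush (pullback.snd a b)]
    (M : DCoh.D X) (hM : DCoh.IsQCohD M) : DCoh.IsQCohD ((FMK.phi a b K).obj M) := by
  obtain ⟨_, _⟩ := qcqs_snd a b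
  exact QRlimLib.isQCohD_rpush (pullback.snd a b)
    (KFlatLib.isQCohD_lTensorCx K hK _ (KFlatLib.isQCohD_lpull _ M hM))

/-- Tensoring with the structure sheaf changes nothing. -/
theorem nonempty_lTensorMod_unit {X : Scheme.{u}} [DCoh.HasLTensorMod (Coh.structureModule X)]
    (E : DCoh.D X) : Nonempty ((DCoh.LTensorMod (Coh.structureModule X)).obj E ≅ E) := by
  obtain ⟨T, hT, ⟨eT⟩⟩ := exists_flat_rep E
  let e₁ := (DCoh.LTensorMod (Coh.structureModule X)).mapIso eT
  let e₂ := KFlatLib.lTensorModObjIso (Coh.structureModule X) T hT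
  let e₃ := DerivedCategory.Q.mapIso ((KiehlLib.tensorModUnitIso X).app T)
  exact ⟨e₁.symm ≪≫ e₂ ≪≫ e₃ ≪≫ eT⟩

/-- Direct images of perfect objects along proper flat morphisms of finite presentation are perfect. -/
theorem isPerfect_rpush_flat {T : Scheme.{u}} (f : X ⟶ T) [IsProper f] [Flat f]
    [LocallyOfFinitePresentation f] [DCoh.HasRpush f] (E : DCoh.D X) (hE : DCoh.IsPerfect E) :
    DCoh.IsPerfect ((DCoh.Rpush f).obj E) := by
  haveI : Coh.IsQCoh (Coh.structureModule X) := QCohLib.isQCoh_unit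
  haveI := KFlatLib.hasLTensorMod (Coh.structureModule X)
  obtain ⟨e⟩ := nonempty_lTensorMod_unit E
  have h := KiehlLib.isPerfect_rpush_lTensor f (Coh.structureModule X) DepthLib.isFP_structureModule
    (PerfBaseLib.isFlatOver_unit f) E hE
  exact PerfLib.isPerfect_of_iso ((DCoh.Rpush f).mapIso e) h

/-- Transforms with perfect kernels preserve perfectness. -/
theorem isPerfect_phi [IsProper a] [Flat a] [LocallyOfFinitePresentation a]
    (K : Cx (pullback a b)) (hK : DCoh.IsPerfect (DCoh.toD _ K))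
    [DCoh.HasLpull (pullback.fst a b)] [DCoh.HasLTensorCx K] [DCoh.HasRpush (pullback.snd a b)]
    (M : DCoh.D X) (hM : DCoh.IsPerfect M) : DCoh.IsPerfect ((FMK.phi a b K).obj M) := by
  haveI : IsProper (pullback.snd a b) := MorphismProperty.pullback_snd (P := @IsProper) a b ‹_›
  haveI : Flat (pullback.snd a b) := MorphismProperty.pullback_snd (P := @Flat) a b ‹_›
  obtain ⟨K₀, hK₀, ⟨eK⟩⟩ := exists_flat_rep (DCoh.toD _ K)
  haveI := KFlatLib.hasLTensorCx K₀
  obtain ⟨c⟩ := nonempty_lTensor_congr_iso eK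
  let A := (DCoh.Lpull (pullback.fst a b)).obj M
  have h₀ : DCoh.IsPerfect A := KFlatLib.isPerfect_lpull (pullback.fst a b) M hM
  have h₁ : DCoh.IsPerfect ((DCoh.LTensorCx K₀).obj A) :=
    KFlatLib.isPerfect_lTensor K₀ hK₀ (PerfLib.isPerfect_of_iso eK.symm hK) A h₀
  have h₂ : DCoh.IsPerfect ((DCoh.LTensorCx K).obj A) :=
    PerfLib.isPerfect_of_iso (c.app A) h₁
  exact isPerfect_rpush_flat (pullback.snd a b) ((DCoh.LTensorCx K).obj A) h₂

end Groth.Agent.DualFMLib
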