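import Groth.Agent.Dual3Lib.PushHom
import Groth.Agent.Dual3Lib.KernelAdj
import Groth.Agent.BoxSurjLib.DiagKernel
import Groth.Agent.DerBCLib.Models
import Groth.Agent.DerBCLib.Derived
import Groth.Agent.KFlatLib.QCohLpull
import Groth.Agent.S3527
import Groth.Prelude.Def_DualFM

/-!
# Natural projection formulas and base change on `D_qcoh`
-/

set_option autoImplicit false
set_option linter.style.haveILetI false
set_option backward.isDefEq.respectTransparency false
set_option backward.isDefEq.respectTransparency.types false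
set_option maxHeartbeats 1000000
set_option synthInstance.maxHeartbeats 200000

universe u

open CategoryTheory CategoryTheory.Limits AlgebraicGeometry HomologicalComplex
open Groth.Agent.DerLib Groth.Agent.PerfDualLib Groth.Agent.ProjFormLib

attribute [local instance] HasDerivedCategory.standard

namespace Groth.Agent.DualFMLib

section Descend

variable {A B C : Type*} [Category A] [Category B] [Category C]

/-- An isomorphism of functors may be given after a full essentially surjective functor. -/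
noncomputable def descendIso (Φ : A ⥤ B) [Φ.Full] [Φ.EssSurj] {G₁ G₂ : B ⥤ C}
    (e : Φ ⋙ G₁ ≅ Φ ⋙ G₂) : G₁ ≅ G₂ :=
  NatIso.ofComponents
    (fun b => (G₁.mapIso (Φ.objObjPreimageIso b)).symm ≪≫ e.app (Φ.objPreimage b) ≪≫
      G₂.mapIso (Φ.objObjPreimageIso b))
    fun {b b'} g => by
      let g₀ := Φ.preimage ((Φ.objObjPreimageIso b).hom ≫ g ≫ (Φ.objObjPreimageIso b').inv)
      have hg : (Φ.objObjPreimageIso b).hom ≫ g = Φ.map g₀ ≫ (Φ.objObjPreimageIso b').hom := by
        simp [g₀]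
      have hg' : g ≫ (Φ.objObjPreimageIso b').inv = (Φ.objObjPreimageIso b).inv ≫ Φ.map g₀ := by
        simp [g₀]
      have h := e.hom.naturality g₀
      simp only [Functor.comp_map] at h
      simp only [Iso.trans_hom, Iso.symm_hom, Functor.mapIso_inv, Functor.mapIso_hom, Iso.app_hom,
        Category.assoc]
      rw [← G₁.map_comp_assoc, hg', G₁.map_comp_assoc, reassoc_of% h, ← G₂.map_comp, ← G₂.map_comp, hg]

/-- Composing two comparisons of functors. -/
def pasteIso {A B C D E : Type*} [Category A] [Category B] [Category C] [Category D] [Category E]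
    (i : A ⥤ B) (p : B ⥤ C) (r t : C ⥤ C) (q₁ : B ⥤ D) (q₂ : C ⥤ E) (R : D ⥤ E) (G : E ⥤ E)
    (e₁ : (i ⋙ p) ⋙ q₂ ≅ (i ⋙ q₁) ⋙ R) (e₂ : q₂ ⋙ G ≅ r ⋙ t ⋙ q₂) :
    (i ⋙ q₁) ⋙ R ⋙ G ≅ (i ⋙ p ⋙ r) ⋙ t ⋙ q₂ :=
  (Functor.associator _ _ _).symm ≪≫ Functor.isoWhiskerRight e₁.symm G ≪≫ Functor.associator _ _ _ ≪≫
    Functor.isoWhiskerLeft (i ⋙ p) e₂

/-- Whiskering on both sides, with the brackets moved. -/
def sandwichIso {A B D E : Type*} [Category A] [Category B] [Category D] [Category E]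
    (i : A ⥤ B) (t : B ⥤ B) (q : B ⥤ D) (L : D ⥤ D) (R : D ⥤ E) (e : q ⋙ L ≅ t ⋙ q) :
    (i ⋙ t ⋙ q) ⋙ R ≅ (i ⋙ q) ⋙ L ⋙ R :=
  Functor.isoWhiskerRight (Functor.isoWhiskerLeft i e.symm) R

end Descend

/-- Whiskering an isomorphism on a full subcategory along a functor landing in it. -/
theorem nonempty_whisker {A B C : Type*} [Category A] [Category B] [Category C] {P : ObjectProperty A}
    {Q : ObjectProperty B} (F : A ⥤ B) (hF : ∀ M, P M → Q (F.obj M)) {G₁ G₂ : B ⥤ C}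
    (e : Nonempty (Q.ι ⋙ G₁ ≅ Q.ι ⋙ G₂)) :
    Nonempty (P.ι ⋙ F ⋙ G₁ ≅ P.ι ⋙ F ⋙ G₂) :=
  e.map fun e => (Functor.associator _ _ _).symm ≪≫
    Functor.isoWhiskerRight (ObjectProperty.liftCompιIso Q (P.ι ⋙ F) fun M => hF M.obj M.property).symm G₁ ≪≫
    Functor.associator _ _ _ ≪≫
    Functor.isoWhiskerLeft (Q.lift (P.ι ⋙ F) fun M => hF M.obj M.property) e ≪≫
    (Functor.associator _ _ _).symm ≪≫
    Functor.isoWhiskerRight (ObjectProperty.liftCompιIso Q (P.ι ⋙ F) fun M => hF M.obj M.property) G₂ ≪≫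
    Functor.associator _ _ _

section Proj

variable {X Y : Scheme.{u}} (f : X ⟶ Y)

theorem proj_natural_map {A A' : Cx Y} {I I' : Cx X} {ψ : A ⟶ (pushC f).obj I}
    {ψ' : A' ⟶ (pushC f).obj I'} (a : A ⟶ A') (c : I ⟶ I')
    (h : ψ ≫ (pushC f).map c = a ≫ ψ') (F : Cx Y) :
    ((DCoh.tensorCx (X := Y)).map a).app F ≫ proj f ψ' F =
      proj f ψ F ≫ (pushC f).map (((DCoh.tensorCx (X := X)).map c).app ((pullC f).obj F)) := by
  unfold proj projGen
  erw [← (cxAdj f).homEquiv_naturality_left, ← (cxAdj f).homEquiv_naturality_right]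
  refine congrArg _ ?_
  have hψ : (pullC f).map a ≫ ((cxAdj f).homEquiv _ _).symm ψ' =
      ((cxAdj f).homEquiv _ _).symm ψ ≫ c := by
    rw [← (cxAdj f).homEquiv_naturality_left_symm, ← (cxAdj f).homEquiv_naturality_right_symm, h]
  have h₁ : ((DCoh.tensorCx (X := X)).map ((pullC f).map a)).app ((pullC f).obj F) ≫
      (KFlatLib.pullTensorCxIso f A' F).hom = (KFlatLib.pullTensorCxIso f A F).hom ≫
        (pullC f).map (((DCoh.tensorCx (X := Y)).map a).app F) := pullTensor_natural₁ f a F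
  have h₂ : (pullC f).map (((DCoh.tensorCx (X := Y)).map a).app F) ≫
      (KFlatLib.pullTensorCxIso f A' F).inv = (KFlatLib.pullTensorCxIso f A F).inv ≫
        ((DCoh.tensorCx (X := X)).map ((pullC f).map a)).app ((pullC f).obj F) := by
    rw [Iso.eq_inv_comp, ← Category.assoc, Iso.comp_inv_eq]
    exact h₁.symm
  rw [reassoc_of% h₂]
  simp only [Category.assoc]
  refine congrArg (_ ≫ ·) ?_
  exact ((congrArg (fun z => z.app ((pullC f).obj F))
      ((DCoh.tensorCx (X := X)).map_comp ((pullC f).map a) (((cxAdj f).homEquiv _ _).symm ψ'))).symm.trans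
    (congrArg (fun z => ((DCoh.tensorCx (X := X)).map z).app ((pullC f).obj F)) hψ)).trans
    (congrArg (fun z => z.app ((pullC f).obj F))
      ((DCoh.tensorCx (X := X)).map_comp (((cxAdj f).homEquiv _ _).symm ψ) c))

variable [DCoh.HasRpush f]

theorem beta_natural_map {A A' : Cx Y} {I I' : Cx X} {ψ : A ⟶ (pushC f).obj I}
    {ψ' : A' ⟶ (pushC f).obj I'} (a : A ⟶ A') (c : I ⟶ I')
    (h : ψ ≫ (pushC f).map c = a ≫ ψ') (F : Cx Y) :
    DerivedCategory.Q.map (((DCoh.tensorCx (X := Y)).map a).app F) ≫ Dual3Lib.beta f ψ' F =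
      Dual3Lib.beta f ψ F ≫ (DCoh.Rpush f).map
        (DerivedCategory.Q.map (((DCoh.tensorCx (X := X)).map c).app ((pullC f).obj F))) := by
  simp only [Dual3Lib.beta, Category.assoc]
  rw [← Dual3Lib.pushQ_natural]
  exact (Category.assoc _ _ _).symm.trans ((congrArg (· ≫ Dual3Lib.pushQ f _)
    ((DerivedCategory.Q.map_comp _ _).symm.trans ((congrArg DerivedCategory.Q.map
      (proj_natural_map f a c h F)).trans (DerivedCategory.Q.map_comp _ _)))).trans (Category.assoc _ _ _))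

end Proj

section KInjModel

variable (X : Scheme.{u})

/-- K-injective complexes with quasi-coherent cohomology. -/
def KQ : ObjectProperty (Cx X) := fun I =>
  I.IsKInjective ∧ DCoh.IsQCohD (DerivedCategory.Q.obj I)

/-- Their image in `D_qcoh`. -/
noncomputable def kqQ : (KQ X).FullSubcategory ⥤ (DCoh.IsQCohD (X := X)).FullSubcategory :=
  (DCoh.IsQCohD (X := X)).lift ((KQ X).ι ⋙ DerivedCategory.Q) fun I => I.property.2

/-- `kqQ` followed by the inclusion is `Q`. -/
noncomputable def kqIso : kqQ X ⋙ (DCoh.IsQCohD (X := X)).ι ≅ (KQ X).ι ⋙ DerivedCategory.Q :=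
  ObjectProperty.liftCompιIso _ _ _

instance : (kqQ X).EssSurj where
  mem_essImage K := by
    obtain ⟨R, r, hR, hr⟩ := exists_res (DerivedCategory.Q.objPreimage K.obj)
    haveI := hr
    let e : DerivedCategory.Q.obj R ≅ K.obj :=
      (asIso (DerivedCategory.Q.map r)).symm ≪≫ DerivedCategory.Q.objObjPreimageIso K.obj
    exact ⟨⟨R, hR, KFlatLib.isQCohD_iso e.symm K.property⟩,
      ⟨(DCoh.IsQCohD (X := X)).fullyFaithfulι.preimageIso e⟩⟩

instance : (kqQ X).Full where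
  map_surjective {I J} φ := by
    haveI := J.property.1
    obtain ⟨g, hg⟩ := (CochainComplex.IsKInjective.Qh_map_bijective
      ((HomotopyCategory.quotient X.Modules (ComplexShape.up ℤ)).obj I.obj) J.obj).2
        ((DerivedCategory.quotientCompQhIso X.Modules).hom.app I.obj ≫ φ.hom ≫
          (DerivedCategory.quotientCompQhIso X.Modules).inv.app J.obj)
    obtain ⟨g₀, rfl⟩ := (HomotopyCategory.quotient X.Modules (ComplexShape.up ℤ)).map_surjective g
    refine ⟨ObjectProperty.homMk g₀, ObjectProperty.hom_ext _ ?_⟩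
    have h2 : DerivedCategory.Qh.map
          ((HomotopyCategory.quotient X.Modules (ComplexShape.up ℤ)).map g₀) ≫
        (DerivedCategory.quotientCompQhIso X.Modules).hom.app J.obj =
          (DerivedCategory.quotientCompQhIso X.Modules).hom.app I.obj ≫ φ.hom := by
      rw [hg]
      simp only [Category.assoc, Iso.inv_hom_id_app]
      exact congrArg _ (Category.comp_id φ.hom)
    exact (cancel_epi ((DerivedCategory.quotientCompQhIso X.Modules).hom.app I.obj)).1
      (((DerivedCategory.quotientCompQhIso X.Modules).hom.naturality g₀).symm.trans h2)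

end KInjModel

section ProjNat

variable {X Y : Scheme.{u}} (f : X ⟶ Y) [QuasiCompact f] [QuasiSeparated f] [DCoh.HasRpush f]
  (F : Cx Y) (hF : DCoh.IsKFlat F) (hFq : DCoh.IsQCohD (DerivedCategory.Q.obj F))
  [DCoh.HasLTensorCx F] [DCoh.HasLTensorCx ((pullC f).obj F)]

/-- The resolution of a direct image. -/
noncomputable abbrev res₀ (I : Cx X) : (KFlatLib.resP Y).obj ((pushC f).obj I) ⟶ (pushC f).obj I :=
  (KFlatLib.resψ Y).app ((pushC f).obj I)

/-- The comparison `f_* ⟶ Rf_*` as a natural transformation. -/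
noncomputable def pushQN : pushC f ⋙ DerivedCategory.Q ⟶ DerivedCategory.Q ⋙ DCoh.Rpush f where
  app T := Dual3Lib.pushQ f T
  naturality _ _ e := Dual3Lib.pushQ_natural f e

theorem isIso_pushQN : IsIso (Functor.whiskerLeft (KQ X).ι (pushQN f)) := by
  haveI : ∀ I, IsIso ((Functor.whiskerLeft (KQ X).ι (pushQN f)).app I) := fun I => by
    haveI := I.property.1
    rw [Functor.whiskerLeft_app]
    exact Dual3Lib.isIso_pushQ f I.obj
  exact NatIso.isIso_of_isIso_app _

/-- `f_*` computes `Rf_*` on K-injective complexes. -/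
noncomputable def pushKQ :
    ((KQ X).ι ⋙ pushC f) ⋙ DerivedCategory.Q ≅ ((KQ X).ι ⋙ DerivedCategory.Q) ⋙ DCoh.Rpush f :=
  Functor.associator _ _ _ ≪≫ @asIso _ _ _ _ _ (isIso_pushQN f) ≪≫ (Functor.associator _ _ _).symm

/-- The left side on complexes. -/
noncomputable def lhsKQ :
    ((KQ X).ι ⋙ DerivedCategory.Q) ⋙ DCoh.Rpush f ⋙ DCoh.LTensorCx F ≅
      ((KQ X).ι ⋙ pushC f ⋙ KFlatLib.resP Y) ⋙ TensorAssocLib.tR F ⋙ DerivedCategory.Q :=
  pasteIso (KQ X).ι (pushC f) (KFlatLib.resP Y) (TensorAssocLib.tR F) DerivedCategory.Q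
    DerivedCategory.Q (DCoh.Rpush f) (DCoh.LTensorCx F) (pushKQ f)
    (TensorAssocLib.resIso (DCoh.LTensorCx F) ≪≫ TensorAssocLib.resCnt F)

include hF hFq in
/-- The projection map on complexes. -/
noncomputable def midKQ :
    ((KQ X).ι ⋙ pushC f ⋙ KFlatLib.resP Y) ⋙ TensorAssocLib.tR F ⋙ DerivedCategory.Q ≅
      ((KQ X).ι ⋙ TensorAssocLib.tR ((pullC f).obj F) ⋙ DerivedCategory.Q) ⋙ DCoh.Rpush f :=
  NatIso.ofComponents
    (fun I => @asIso _ _ _ _ (Dual3Lib.beta f (res₀ f I.obj) F)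
      (by
        haveI := I.property.1
        haveI : QuasiIso (res₀ f I.obj) := KFlatLib.quasiIso_resψ _
        exact Dual3Lib.isIso_beta_of_qcoh f _ (KFlatLib.good_resP _).1 I.property.2 F hF hFq))
    fun {I J} c => beta_natural_map f ((KFlatLib.resP Y).map ((pushC f).map c.hom)) c.hom
      ((KFlatLib.resψ Y).naturality ((pushC f).map c.hom)).symm F

/-- The right side on complexes. -/
noncomputable def rhsKQ :
    ((KQ X).ι ⋙ TensorAssocLib.tR ((pullC f).obj F) ⋙ DerivedCategory.Q) ⋙ DCoh.Rpush f ≅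
      ((KQ X).ι ⋙ DerivedCategory.Q) ⋙ DCoh.LTensorCx ((pullC f).obj F) ⋙ DCoh.Rpush f :=
  sandwichIso (KQ X).ι (TensorAssocLib.tR ((pullC f).obj F)) DerivedCategory.Q
    (DCoh.LTensorCx ((pullC f).obj F)) (DCoh.Rpush f)
    (TensorAssocLib.flatCnt ((pullC f).obj F) (KFlatLib.isKFlat_pull f hF))

include hF hFq in
/-- **The projection formula, natural in the object pushed forward.** -/
theorem nonempty_projNat :
    Nonempty ((DCoh.IsQCohD (X := X)).ι ⋙ DCoh.Rpush f ⋙ DCoh.LTensorCx F ≅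
      (DCoh.IsQCohD (X := X)).ι ⋙ DCoh.LTensorCx ((pullC f).obj F) ⋙ DCoh.Rpush f) :=
  ⟨descendIso (kqQ X) ((Functor.associator _ _ _).symm ≪≫
    Functor.isoWhiskerRight (kqIso X) _ ≪≫ lhsKQ f F ≪≫ midKQ f F hF hFq ≪≫
    rhsKQ f F hF ≪≫ Functor.isoWhiskerRight (kqIso X).symm _ ≪≫ Functor.associator _ _ _)⟩

end ProjNat

section ProjNat₂

variable {X Y : Scheme.{u}} (f : X ⟶ Y) [QuasiCompact f] [QuasiSeparated f] [DCoh.HasRpush f]
  [DCoh.HasLpull f]
  {A : Cx Y} {I : Cx X} (ψ : A ⟶ (pushC f).obj I) [DCoh.HasLTensorCx A] [DCoh.HasLTensorCx I]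

/-- The projection map against a fixed object. -/
noncomputable def betaNat :
    (DCoh.tensorCx (X := Y)).obj A ⋙ DerivedCategory.Q ⟶
      (pullC f ⋙ (DCoh.tensorCx (X := X)).obj I ⋙ DerivedCategory.Q) ⋙ DCoh.Rpush f where
  app F := Dual3Lib.beta f ψ F
  naturality _ _ κ := Dual3Lib.beta_natural f ψ κ

/-- The source on resolutions. -/
noncomputable def srcRes :
    DerivedCategory.Q ⋙ DCoh.LTensorCx A ≅
      KFlatLib.resP Y ⋙ (DCoh.tensorCx (X := Y)).obj A ⋙ DerivedCategory.Q :=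
  TensorAssocLib.resIso (DCoh.LTensorCx A) ≪≫ TensorAssocLib.resCnt A ≪≫
    Functor.isoWhiskerLeft (KFlatLib.resP Y) (Functor.isoWhiskerRight (BoxSurjLib.symIso A) DerivedCategory.Q)

/-- The tensor product on K-flat pullbacks. -/
noncomputable def pullCnt :
    (KFlatLib.resP Y ⋙ pullC f) ⋙ DerivedCategory.Q ⋙ DCoh.LTensorCx I ≅
      (KFlatLib.resP Y ⋙ pullC f) ⋙ TensorAssocLib.tR I ⋙ DerivedCategory.Q :=
  NatIso.ofComponents
    (fun M => @asIso _ _ _ _ _ (TensorAssocLib.isIso_cnt_of_kFlat I _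
      (KFlatLib.isKFlat_pull f (KFlatLib.good_resP M).1)))
    fun g => (TensorAssocLib.cnt I).naturality _

/-- The target on resolutions. -/
noncomputable def tgtRes :
    DerivedCategory.Q ⋙ DCoh.Lpull f ⋙ DCoh.LTensorCx I ⋙ DCoh.Rpush f ≅
      KFlatLib.resP Y ⋙ (pullC f ⋙ (DCoh.tensorCx (X := X)).obj I ⋙ DerivedCategory.Q) ⋙ DCoh.Rpush f :=
  TensorAssocLib.resIso (DCoh.Lpull f ⋙ DCoh.LTensorCx I ⋙ DCoh.Rpush f) ≪≫
    Functor.isoWhiskerRight (Dual3Lib.pullResIso f (R := KFlatLib.resP Y) fun M => (KFlatLib.good_resP M).1)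
      (DCoh.LTensorCx I ⋙ DCoh.Rpush f) ≪≫
    Functor.isoWhiskerRight (pullCnt f ≪≫ Functor.isoWhiskerLeft (KFlatLib.resP Y ⋙ pullC f)
      (Functor.isoWhiskerRight (BoxSurjLib.symIso I) DerivedCategory.Q)) (DCoh.Rpush f)

/-- The derived projection map. -/
noncomputable def thetaNat :
    DCoh.LTensorCx A ⟶ DCoh.Lpull f ⋙ DCoh.LTensorCx I ⋙ DCoh.Rpush f :=
  Localization.liftNatTrans DerivedCategory.Q
    (HomologicalComplex.quasiIso Y.Modules (ComplexShape.up ℤ))
    (DerivedCategory.Q ⋙ DCoh.LTensorCx A)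
    (DerivedCategory.Q ⋙ DCoh.Lpull f ⋙ DCoh.LTensorCx I ⋙ DCoh.Rpush f) _ _
    ((srcRes (A := A)).hom ≫ Functor.whiskerLeft (KFlatLib.resP Y) (betaNat f ψ) ≫ (tgtRes f (I := I)).inv)

theorem isIso_thetaNat [I.IsKInjective] [QuasiIso ψ] (hA : DCoh.IsKFlat A)
    (hI : DCoh.IsQCohD (DerivedCategory.Q.obj I)) (E : DCoh.D Y) (hE : DCoh.IsQCohD E) :
    IsIso ((thetaNat f ψ).app E) := by
  refine (NatTrans.isIso_app_iff_of_iso _ (DerivedCategory.Q.objObjPreimageIso E)).1 ?_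
  rw [thetaNat, Localization.liftNatTrans_app]
  let M := DerivedCategory.Q.objPreimage E
  haveI : QuasiIso ((KFlatLib.resψ Y).app M) := KFlatLib.quasiIso_resψ M
  haveI : IsIso ((betaNat f ψ).app ((KFlatLib.resP Y).obj M)) :=
    Dual3Lib.isIso_beta_of_qcoh f ψ hA hI _ (KFlatLib.good_resP M).1
      (KFlatLib.isQCohD_iso ((asIso (DerivedCategory.Q.map ((KFlatLib.resψ Y).app M))) ≪≫
        DerivedCategory.Q.objObjPreimageIso E).symm hE)
  simp only [NatTrans.comp_app, Functor.whiskerLeft_app]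
  infer_instance

end ProjNat₂

/-- **The projection formula, natural in the object of the base.** -/
theorem nonempty_projNat₂ {X Y : Scheme.{u}} (f : X ⟶ Y) [QuasiCompact f] [QuasiSeparated f]
    [DCoh.HasRpush f] [DCoh.HasLpull f] (P : Cx X) (hP : DCoh.IsQCohD (DerivedCategory.Q.obj P))
    (N : Cx Y) (eN : DerivedCategory.Q.obj N ≅ (DCoh.Rpush f).obj (DerivedCategory.Q.obj P))
    [DCoh.HasLTensorCx N] [DCoh.HasLTensorCx P] :
    Nonempty ((DCoh.IsQCohD (X := Y)).ι ⋙ DCoh.LTensorCx N ≅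
      (DCoh.IsQCohD (X := Y)).ι ⋙ DCoh.Lpull f ⋙ DCoh.LTensorCx P ⋙ DCoh.Rpush f) := by
  obtain ⟨I, r, hI, hr⟩ := exists_res P
  haveI := hI
  haveI := hr
  let A := (KFlatLib.resP Y).obj ((pushC f).obj I)
  haveI : QuasiIso (res₀ f I) := KFlatLib.quasiIso_resψ _
  haveI := KFlatLib.hasLTensorCx A
  haveI := KFlatLib.hasLTensorCx I
  let eI : DerivedCategory.Q.obj P ≅ DerivedCategory.Q.obj I := asIso (DerivedCategory.Q.map r)
  haveI := Dual3Lib.isIso_pushQ f I
  let eA : DerivedCategory.Q.obj N ≅ DerivedCategory.Q.obj A :=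
    eN ≪≫ (DCoh.Rpush f).mapIso eI ≪≫ (asIso (Dual3Lib.pushQ f I)).symm ≪≫
      (asIso (DerivedCategory.Q.map (res₀ f I))).symm
  obtain ⟨c₁⟩ := nonempty_lTensor_congr_iso eA
  obtain ⟨c₂⟩ := nonempty_lTensor_congr_iso eI
  have hiso : ∀ E : (DCoh.IsQCohD (X := Y)).FullSubcategory,
      IsIso ((Functor.whiskerLeft (DCoh.IsQCohD (X := Y)).ι (thetaNat f (res₀ f I))).app E) := fun E =>
    isIso_thetaNat f (res₀ f I) (KFlatLib.good_resP _).1 (KFlatLib.isQCohD_iso eI hP) E.obj E.property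
  haveI := hiso
  haveI := NatIso.isIso_of_isIso_app (Functor.whiskerLeft (DCoh.IsQCohD (X := Y)).ι (thetaNat f (res₀ f I)))
  exact ⟨Functor.isoWhiskerLeft _ c₁ ≪≫
    asIso (Functor.whiskerLeft (DCoh.IsQCohD (X := Y)).ι (thetaNat f (res₀ f I))) ≪≫
    Functor.isoWhiskerLeft _ (Functor.isoWhiskerLeft _ (Functor.isoWhiskerRight c₂.symm _))⟩

section BC

variable {X S X' S' : Scheme.{u}} {f : X ⟶ S} {g : S' ⟶ S} {f' : X' ⟶ S'} {g' : X' ⟶ X}

/-- **Flat base change on `D_qcoh`, natural.** -/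
theorem nonempty_bcNat [QuasiCompact f] [QuasiSeparated f] (H : IsPullback g' f' f g)
    (hflat : Flat f ∨ Flat g) [DCoh.HasRpush f] [DCoh.HasLpull g] [DCoh.HasLpull g']
    [DCoh.HasRpush f'] :
    Nonempty ((DCoh.IsQCohD (X := X)).ι ⋙ DCoh.Rpush f ⋙ DCoh.Lpull g ≅
      (DCoh.IsQCohD (X := X)).ι ⋙ DCoh.Lpull g' ⋙ DCoh.Rpush f') := by
  haveI := DCohRestrLib.hasRpush g
  haveI := DCohRestrLib.hasRpush g'
  let τ := Functor.whiskerLeft (DCoh.IsQCohD (X := X)).ι (DerBCLib.bcNat (DerBCLib.rpushSqIso H.w))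
  have hτ : ∀ E, IsIso (τ.app E) := fun E =>
    DerBCLib.isIso_baseChangeApp H (KFlatLib.lpullRpushAdj g) (KFlatLib.lpullRpushAdj g')
      (fun T hT hTq => DerBCLib.hasLocModel_tor hT hTq fun U hU U' hU' e V hV e' i hi => by
        letI := (g.appLE U U' e).hom.toModule
        letI := (f.appLE U V e').hom.toModule
        rcases hflat with h | h
        · haveI := h
          have hf : (f.appLE U V e').hom.Flat := Flat.flat_appLE f hU hV e'
          haveI : Module.Flat Γ(S, U) Γ(X, V) := hf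
          exact (Groth.Agent.S3527.result Γ(S, U) Γ(X, V) Γ(S', U') i hi).2
        · haveI := h
          have hg : (g.appLE U U' e).hom.Flat := Flat.flat_appLE g hU hU' e
          haveI : Module.Flat Γ(S, U) Γ(S', U') := hg
          exact (Groth.Agent.S3527.result Γ(S, U) Γ(S', U') Γ(X, V) i hi).1)
      E.obj E.property
  haveI := hτ
  haveI := NatIso.isIso_of_isIso_app τ
  exact ⟨asIso τ⟩

end BC

end Groth.Agent.DualFMLib
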