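import Groth.Agent.FlatLib.FlatMisc
import Groth.Agent.KFlatLib.CxFlat
import Groth.Prelude.Def_DRing2
import Mathlib

/-!
# Tor vanishing detected on charts
-/

set_option autoImplicit false
set_option maxHeartbeats 1000000
set_option linter.style.haveILetI false
set_option backward.isDefEq.respectTransparency false
set_option backward.isDefEq.respectTransparency.types false

universe u

open CategoryTheory TensorProduct

namespace Groth.Agent.DualFMLib

/-- Flatness through a ring homomorphism. -/
def FlatVia {W B : Type u} [CommRing W] [CommRing B] (φ : W →+* B) (M : Type u) [AddCommGroup M]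
    [Module B M] : Prop :=
  letI : Module W M := Module.compHom M φ
  Module.Flat W M

theorem FlatVia.of_equiv {W B : Type u} [CommRing W] [CommRing B] {φ : W →+* B} {M N : Type u}
    [AddCommGroup M] [Module B M] [AddCommGroup N] [Module B N] (e : M ≃ₗ[B] N) (h : FlatVia φ N) :
    FlatVia φ M := by
  letI : Module W M := Module.compHom M φ
  letI : Module W N := Module.compHom N φ
  haveI : Module.Flat W N := h
  exact Module.Flat.of_linearEquiv
    { e.toAddEquiv with map_smul' := fun r x => e.map_smul (φ r) x }

theorem FlatVia.of_flat {W B : Type u} [CommRing W] [CommRing B] {φ : W →+* B} {M : Type u}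
    [AddCommGroup M] [Module B M] [Module.Flat B M] (hφ : φ.Flat) : FlatVia φ M := by
  letI := φ.toAlgebra
  letI : Module W M := Module.compHom M φ
  haveI : IsScalarTower W B M := IsScalarTower.of_algebraMap_smul fun _ _ => rfl
  haveI : Module.Flat W B := hφ
  exact Module.Flat.trans W B M

theorem FlatVia.kernel {W B : Type u} [CommRing W] [CommRing B] {φ : W →+* B} {K F N : Type u}
    [AddCommGroup K] [Module B K] [AddCommGroup F] [Module B F] [AddCommGroup N] [Module B N]
    (u : K →ₗ[B] F) (g : F →ₗ[B] N) (hu : Function.Injective u) (he : Function.Exact u g)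
    (hg : Function.Surjective g) (hF : FlatVia φ F) (hN : FlatVia φ N) : FlatVia φ K := by
  letI := φ.toAlgebra
  letI : Module W K := Module.compHom K φ
  letI : Module W F := Module.compHom F φ
  letI : Module W N := Module.compHom N φ
  haveI : IsScalarTower W B K := IsScalarTower.of_algebraMap_smul fun _ _ => rfl
  haveI : IsScalarTower W B F := IsScalarTower.of_algebraMap_smul fun _ _ => rfl
  haveI : IsScalarTower W B N := IsScalarTower.of_algebraMap_smul fun _ _ => rfl
  haveI : Module.Flat W F := hF
  haveI : Module.Flat W N := hN
  exact KFlatLib.flat_kernel (u.restrictScalars W) (g.restrictScalars W) hu he hg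

/-- A chart: a ring `B` over `R` and a localisation `C` of `R'` over `B`, such that tensoring with
`C` over `B` preserves injections with cokernel flat over `W`. -/
structure TorChart (R R' : Type u) [CommRing R] [CommRing R'] [Algebra R R'] where
  W : Type u
  B : Type u
  C : Type u
  [crW : CommRing W]
  [crB : CommRing B]
  [crC : CommRing C]
  φ : W →+* B
  [algRB : Algebra R B]
  [flatRB : Module.Flat R B]
  flatφ : φ.Flat
  [algR'C : Algebra R' C]
  [algBC : Algebra B C]
  r' : R'
  [loc : IsLocalization.Away r' C]
  compat : (algebraMap R' C).comp (algebraMap R R') = (algebraMap B C).comp (algebraMap R B)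
  key : ∀ (K F N : Type u) [AddCommGroup K] [Module B K] [AddCommGroup F] [Module B F]
    [AddCommGroup N] [Module B N] (u : K →ₗ[B] F) (g : F →ₗ[B] N), Function.Injective u →
    Function.Exact u g → Function.Surjective g → FlatVia φ N → Function.Injective (u.baseChange C)

attribute [instance] TorChart.crW TorChart.crB TorChart.crC TorChart.algRB TorChart.flatRB
  TorChart.algR'C TorChart.algBC TorChart.loc

variable {R R' : Type u} [CommRing R] [CommRing R'] [Algebra R R']

/-- A module is flat over `W` on every chart of a family. -/
def GoodMod {ι : Type u} (c : ι → TorChart R R') (N : Type u) [AddCommGroup N] [Module R N] : Prop :=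
  ∀ i, FlatVia (c i).φ ((c i).B ⊗[R] N)

variable {ι : Type u} (c : ι → TorChart R R')

theorem goodMod_of_flat (N : Type u) [AddCommGroup N] [Module R N] [Module.Flat R N] : GoodMod c N :=
  fun i => FlatVia.of_flat (c i).flatφ

theorem goodMod_kernel {K F N : Type u} [AddCommGroup K] [Module R K] [AddCommGroup F] [Module R F]
    [AddCommGroup N] [Module R N] (u : K →ₗ[R] F) (g : F →ₗ[R] N) (hu : Function.Injective u)
    (he : Function.Exact u g) (hg : Function.Surjective g) (hF : GoodMod c F) (hN : GoodMod c N) :
    GoodMod c K := fun i =>
  FlatVia.kernel (u.baseChange (c i).B) (g.baseChange (c i).B)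
    (by rw [LinearMap.baseChange_eq_ltensor]; exact Module.Flat.lTensor_preserves_injective_linearMap u hu)
    (by rw [LinearMap.baseChange_eq_ltensor, LinearMap.baseChange_eq_ltensor]
        exact lTensor_exact _ he hg)
    (by rw [LinearMap.baseChange_eq_ltensor]; exact LinearMap.lTensor_surjective _ hg) (hF i) (hN i)

/-- On a chart, the tensor product keeps injections with good cokernel. -/
theorem injective_chart (d : TorChart R R') {K F N : Type u} [AddCommGroup K] [Module R K]
    [AddCommGroup F] [Module R F] [AddCommGroup N] [Module R N] (u : K →ₗ[R] F) (g : F →ₗ[R] N)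
    (hu : Function.Injective u) (he : Function.Exact u g) (hg : Function.Surjective g)
    (hN : FlatVia d.φ (d.B ⊗[R] N)) (z : R' ⊗[R] K) (hz : u.lTensor R' z = 0) :
    ∃ n : ℕ, d.r' ^ n • z = 0 := by
  letI : Algebra R d.C := ((algebraMap R' d.C).comp (algebraMap R R')).toAlgebra
  haveI : IsScalarTower R R' d.C := IsScalarTower.of_algebraMap_eq fun _ => rfl
  haveI : IsScalarTower R d.B d.C := IsScalarTower.of_algebraMap_eq fun x =>
    RingHom.congr_fun d.compat x
  have hB : Function.Injective ((u.baseChange d.B).baseChange d.C) :=
    d.key _ _ _ (u.baseChange d.B) (g.baseChange d.B)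
      (by rw [LinearMap.baseChange_eq_ltensor]; exact Module.Flat.lTensor_preserves_injective_linearMap u hu)
      (by rw [LinearMap.baseChange_eq_ltensor, LinearMap.baseChange_eq_ltensor]
          exact lTensor_exact _ he hg)
      (by rw [LinearMap.baseChange_eq_ltensor]; exact LinearMap.lTensor_surjective _ hg) hN
  let eK := AlgebraTensorModule.cancelBaseChange R d.B d.C d.C K
  let eF := AlgebraTensorModule.cancelBaseChange R d.B d.C d.C F
  have hC : Function.Injective (u.baseChange d.C) := by
    have h1 : ∀ x, u.baseChange d.C (eK x) = eF ((u.baseChange d.B).baseChange d.C x) := fun x => by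
      induction x using TensorProduct.induction_on with
      | zero => simp
      | add a b ha hb => simp only [map_add, ha, hb]
      | tmul cc y =>
        induction y using TensorProduct.induction_on with
        | zero => simp
        | add a b ha hb => simp only [tmul_add, map_add, ha, hb]
        | tmul b k => simp [eK, eF]
    intro x y hxy
    obtain ⟨x, rfl⟩ := eK.surjective x
    obtain ⟨y, rfl⟩ := eK.surjective y
    rw [h1, h1] at hxy
    exact congrArg eK (hB (eF.injective hxy))
  let φK : R' ⊗[R] K →ₗ[R'] d.C ⊗[R] K :=
    AlgebraTensorModule.rTensor R K (Algebra.linearMap R' d.C)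
  haveI : IsLocalizedModule (Submonoid.powers d.r') φK := by
    rw [isLocalizedModule_iff_isBaseChange (Submonoid.powers d.r') d.C]
    refine IsBaseChange.of_equiv (AlgebraTensorModule.cancelBaseChange R R' d.C d.C K) fun x => ?_
    induction x using TensorProduct.induction_on with
    | zero => simp
    | add a b ha hb => simp only [tmul_add, map_add, ha, hb]
    | tmul a k => simp [φK, Algebra.smul_def]
  have hzero : φK z = 0 := by
    refine hC ?_
    rw [map_zero]
    have h2 : ∀ w, u.baseChange d.C (φK w) =
        AlgebraTensorModule.rTensor R F (Algebra.linearMap R' d.C) (u.lTensor R' w) := fun w => by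
      induction w using TensorProduct.induction_on with
      | zero => simp
      | add a b ha hb => simp only [map_add, ha, hb]
      | tmul a k => simp [φK]
    rw [h2, hz, map_zero]
  obtain ⟨⟨s, n, rfl⟩, hs⟩ := (IsLocalizedModule.eq_zero_iff (Submonoid.powers d.r') φK).1 hzero
  exact ⟨n, hs⟩

/-- Covering charts detect injectivity. -/
theorem injective_lTensor_of_charts (hc : ∀ q : Ideal R', q.IsPrime → ∃ i, (c i).r' ∉ q)
    {K F N : Type u} [AddCommGroup K] [Module R K] [AddCommGroup F] [Module R F] [AddCommGroup N]
    [Module R N] (u : K →ₗ[R] F) (g : F →ₗ[R] N) (hu : Function.Injective u)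
    (he : Function.Exact u g) (hg : Function.Surjective g) (hN : GoodMod c N) :
    Function.Injective (u.lTensor R') := by
  rw [injective_iff_map_eq_zero]
  intro z hz
  by_contra hne
  obtain ⟨q, hq, hle⟩ := Ideal.exists_le_maximal (LinearMap.ker (LinearMap.toSpanSingleton R' _ z)) (by
    intro h
    refine hne ?_
    have h1 : (1 : R') ∈ LinearMap.ker (LinearMap.toSpanSingleton R' _ z) := h ▸ Submodule.mem_top
    rwa [LinearMap.mem_ker, LinearMap.toSpanSingleton_apply, one_smul] at h1)
  obtain ⟨i, hi⟩ := hc q hq.isPrime
  obtain ⟨n, hn⟩ := injective_chart (c i) u g hu he hg (hN i) z hz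
  exact hi (hq.isPrime.mem_of_pow_mem n (hle (by rwa [LinearMap.mem_ker, LinearMap.toSpanSingleton_apply])))

/-- **Tor vanishes for good modules.** -/
theorem subsingleton_tor_of_charts (hc : ∀ q : Ideal R', q.IsPrime → ∃ i, (c i).r' ∉ q)
    (A : Type u) [AddCommGroup A] [Module R A] (hA : GoodMod c A) (j : ℕ) (hj : 0 < j) :
    Subsingleton (DRing.Tor R j R' A) := by
  obtain ⟨q, rfl⟩ : ∃ q, j = q + 1 := ⟨j - 1, by omega⟩
  let P := CategoryTheory.projectiveResolution (ModuleCat.of R A)
  let d : ∀ m, P.complex.X (m + 1) →ₗ[R] P.complex.X m := fun m => (P.complex.d (m + 1) m).hom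
  have hex : ∀ m, Function.Exact (d (m + 1)) (d m) := fun m => by
    have h0 := (P.complex.exactAt_iff' (m + 2) (m + 1) m (by simp [ChainComplex.prev]) (by simp)).1
      (P.complex_exactAt_succ m)
    rwa [ShortComplex.ShortExact.moduleCat_exact_iff_function_exact] at h0
  have hflat : ∀ m, Module.Flat R (P.complex.X m) := fun m => by
    haveI : Projective (P.complex.X m) := P.projective m
    haveI : Module.Projective R (P.complex.X m) :=
      (IsProjective.iff_projective (R := R) _).2 inferInstance
    infer_instance
  have hgood : ∀ m, GoodMod c (P.complex.X m ⧸ LinearMap.range (d m)) := fun m => by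
    induction m with
    | zero =>
      intro i
      let π : P.complex.X 0 →ₗ[R] A := (P.π.f 0).hom
      have hπs : Function.Surjective π := (ModuleCat.epi_iff_surjective _).1 inferInstance
      have hπe : Function.Exact (d 0) π := by
        have h := P.exact₀
        rwa [ShortComplex.ShortExact.moduleCat_exact_iff_function_exact] at h
      exact FlatVia.of_equiv (TensorProduct.AlgebraTensorModule.congr (LinearEquiv.refl _ _)
        (hπe.linearEquivOfSurjective hπs)) (hA i)
    | succ m ih =>
      refine goodMod_kernel c ((LinearMap.range (d (m + 1))).liftQ (d m)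
          (by rw [(hex m).linearMap_ker_eq])) (LinearMap.range (d m)).mkQ ?_ ?_
          (Submodule.mkQ_surjective _) ?_ ih
      · rw [← LinearMap.ker_eq_bot, Submodule.ker_liftQ_eq_bot]
        rw [(hex m).linearMap_ker_eq]
      · rw [LinearMap.exact_iff, Submodule.ker_mkQ, Submodule.range_liftQ]
      · haveI := hflat m
        exact goodMod_of_flat c _
  have key : Function.Exact ((d (q + 1)).lTensor R') ((d q).lTensor R') := by
    let π := (LinearMap.range (d (q + 1))).mkQ
    let u := (LinearMap.range (d (q + 1))).liftQ (d q) (by rw [(hex q).linearMap_ker_eq])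
    have hu : Function.Injective u := by
      rw [← LinearMap.ker_eq_bot, Submodule.ker_liftQ_eq_bot]
      rw [(hex q).linearMap_ker_eq]
    have hinj : Function.Injective (u.lTensor R') :=
      injective_lTensor_of_charts c hc u (LinearMap.range (d q)).mkQ hu
        (by rw [LinearMap.exact_iff, Submodule.ker_mkQ, Submodule.range_liftQ])
        (Submodule.mkQ_surjective _) (hgood q)
    have h1 : Function.Exact ((d (q + 1)).lTensor R') (π.lTensor R') :=
      lTensor_exact R' (LinearMap.exact_map_mkQ_range _) (Submodule.mkQ_surjective _)
    have h2 : (d q).lTensor R' = u.lTensor R' ∘ₗ π.lTensor R' := by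
      rw [← LinearMap.lTensor_comp]
      exact congrArg _ (Submodule.liftQ_mkQ _ _ _).symm
    intro x
    rw [h2, LinearMap.comp_apply, ← (h1 x)]
    exact ⟨fun h => hinj (h.trans (map_zero _).symm), fun h => by rw [h, map_zero]⟩
  let T := (MonoidalCategory.tensoringLeft (ModuleCat.{u} R)).obj (ModuleCat.of R R')
  let K := (T.mapHomologicalComplex (ComplexShape.down ℕ)).obj P.complex
  have h1 : K.ExactAt (q + 1) := by
    rw [K.exactAt_iff' (q + 2) (q + 1) q (by simp [ChainComplex.prev]) (by simp),
      ShortComplex.ShortExact.moduleCat_exact_iff_function_exact]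
    exact key
  exact ModuleCat.subsingleton_of_isZero
    (((K.exactAt_iff_isZero_homology _).1 h1).of_iso (P.isoLeftDerivedObj T (q + 1)))

end Groth.Agent.DualFMLib
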